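import Groth.Agent.H7Weight.GeomPts
import Groth.Agent.H7Lim.QuasiFiniteFactor
import Mathlib.Topology.Irreducible

/-!
# Bounding the geometric points in the fibres of quasi-finite morphisms
-/

set_option autoImplicit false
set_option backward.isDefEq.respectTransparency false
set_option linter.style.haveILetI false

universe u

open AlgebraicGeometry CategoryTheory Limits Polynomial

namespace Groth.Agent.H7Weight

variable {X Y : Scheme.{u}}

theorem exists_bound_pts_finite {N : Scheme.{u}} (ν : N ⟶ Y) [IsFinite ν] [IsAffine Y] :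
    ∃ d : ℕ, ∀ (Ω : Type u) [Field Ω] (η : Spec (CommRingCat.of Ω) ⟶ Y),
      Finite (Pts ν η) ∧ Nat.card (Pts ν η) ≤ d := by
  classical
  have : IsAffine N := isAffine_of_isAffineHom ν
  have hfin : ν.appTop.hom.Finite := ν.finite_app _ (isAffineOpen_top Y)
  algebraize [ν.appTop.hom]
  obtain ⟨gens, hgens⟩ := Module.Finite.fg_top (R := Γ(Y, ⊤)) (M := Γ(N, ⊤))
  choose P hPm hP using fun b : Γ(N, ⊤) => (Algebra.IsIntegral.isIntegral (R := Γ(Y, ⊤)) b)
  refine ⟨∏ b ∈ gens, ((P b).natDegree), fun Ω _ η => ?_⟩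
  let e : Γ(Y, ⊤) →+* Ω := ((η.appTop) ≫ (Scheme.ΓSpecIso (CommRingCat.of Ω)).hom).hom
  let R : Γ(N, ⊤) → Finset Ω := fun b => ((P b).map e).roots.toFinset
  let ev : Pts ν η → Γ(N, ⊤) →+* Ω := fun s => ((s.1.appTop) ≫ (Scheme.ΓSpecIso (CommRingCat.of Ω)).hom).hom
  have hev : ∀ s, (ev s).comp ν.appTop.hom = e := fun s => by
    have : ν.appTop ≫ s.1.appTop = η.appTop := by rw [← Scheme.Hom.comp_appTop, s.2]
    show ((ν.appTop ≫ s.1.appTop ≫ (Scheme.ΓSpecIso (CommRingCat.of Ω)).hom)).hom = _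
    rw [reassoc_of% this]
  let Φ : Pts ν η → (∀ b : gens, R b.1) := fun s b => ⟨ev s b.1, by
    rw [Multiset.mem_toFinset, mem_roots ((hPm b.1).map e).ne_zero, IsRoot, eval_map, ← hev s]
    exact (hom_eval₂ (P b.1) ν.appTop.hom (ev s) b.1).symm.trans
      ((congrArg (ev s) (hP b.1)).trans (map_zero _))⟩
  have hΦ : Function.Injective Φ := by
    intro s t hst
    apply Subtype.ext
    apply ext_of_isAffine
    rw [← cancel_mono (Scheme.ΓSpecIso (CommRingCat.of Ω)).hom]
    apply CommRingCat.hom_ext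
    show ev s = ev t
    refine RingHom.ext fun z => ?_
    have hz : z ∈ Submodule.span Γ(Y, ⊤) (gens : Set Γ(N, ⊤)) := hgens ▸ Submodule.mem_top
    induction hz using Submodule.span_induction with
    | mem z hz => exact congr(($hst ⟨z, hz⟩).1)
    | zero => simp
    | add a b _ _ ha hb => rw [map_add, map_add, ha, hb]
    | smul r a _ ha =>
      rw [Algebra.smul_def, map_mul, map_mul, ha]
      congr 1
      exact (congr($(hev s) r)).trans congr($(hev t) r).symm
  refine ⟨Finite.of_injective Φ hΦ, (Nat.card_le_card_of_injective Φ hΦ).trans ?_⟩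
  rw [Nat.card_pi]
  simp only [Nat.card_eq_finsetCard]
  rw [← Finset.prod_coe_sort gens (fun b => (P b).natDegree)]
  exact Finset.prod_le_prod' fun b _ => (Multiset.toFinset_card_le _).trans
    (((P b.1).map e).card_roots'.trans (natDegree_map_le))

theorem exists_bound_pts_affine (f : X ⟶ Y) [LocallyQuasiFinite f] [LocallyOfFiniteType f] [IsAffine X]
    [IsAffine Y] :
    ∃ d : ℕ, ∀ (Ω : Type u) [Field Ω] (η : Spec (CommRingCat.of Ω) ⟶ Y),
      Finite (Pts f η) ∧ Nat.card (Pts f η) ≤ d := by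
  obtain ⟨T, j, π, hj, -, hπ, hjπ⟩ := H7Lim.exists_openImmersion_finite f
  obtain ⟨d, hd⟩ := exists_bound_pts_finite π
  refine ⟨d, fun Ω _ η => ?_⟩
  obtain ⟨h1, h2⟩ := hd Ω η
  let Φ : Pts f η → Pts π η := fun s => ⟨s.1 ≫ j, by rw [Category.assoc, hjπ, s.2]⟩
  have hΦ : Function.Injective Φ := fun s t h => Subtype.ext ((cancel_mono j).1 congr($(h).1))
  exact ⟨Finite.of_injective Φ hΦ, (Nat.card_le_card_of_injective Φ hΦ).trans h2⟩

theorem exists_affine_cover_pair (f : X ⟶ Y) [CompactSpace X] :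
    ∃ (n : ℕ) (O : Fin n → X.Opens) (U : Fin n → Y.Opens),
      (∀ i, IsAffineOpen (O i)) ∧ (∀ i, IsAffineOpen (U i)) ∧ (∀ i, O i ≤ f ⁻¹ᵁ U i) ∧
        ∀ x : X, ∃ i, x ∈ O i := by
  classical
  have : ∀ x : X, ∃ (O : X.Opens) (U : Y.Opens), IsAffineOpen O ∧ IsAffineOpen U ∧ O ≤ f ⁻¹ᵁ U ∧ x ∈ O := by
    intro x
    obtain ⟨_, ⟨U, hU, rfl⟩, hxU, -⟩ :=
      Y.isBasis_affineOpens.exists_subset_of_mem_open (Set.mem_univ (f x)) isOpen_univ
    obtain ⟨_, ⟨O, hO, rfl⟩, hxO, hOU⟩ :=
      X.isBasis_affineOpens.exists_subset_of_mem_open hxU (f ⁻¹ᵁ U).2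
    exact ⟨O, U, hO, hU, hOU, hxO⟩
  choose O U h1 h2 h3 h4 using this
  obtain ⟨t, ht⟩ := isCompact_univ.elim_finite_subcover (fun x => (O x : Set X)) (fun x => (O x).2)
    fun x _ => Set.mem_iUnion.2 ⟨x, h4 x⟩
  refine ⟨t.card, fun i => O (t.equivFin.symm i).1, fun i => U (t.equivFin.symm i).1, fun i => h1 _,
    fun i => h2 _, fun i => h3 _, fun x => ?_⟩
  obtain ⟨y, hy, hxy⟩ := Set.mem_iUnion₂.1 (ht (Set.mem_univ x))
  exact ⟨t.equivFin ⟨y, hy⟩, by simpa using hxy⟩

theorem exists_bound_pts (f : X ⟶ Y) [LocallyQuasiFinite f] [LocallyOfFiniteType f] [CompactSpace X] :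
    ∃ d : ℕ, ∀ (Ω : Type u) [Field Ω] (η : Spec (CommRingCat.of Ω) ⟶ Y),
      Finite (Pts f η) ∧ Nat.card (Pts f η) ≤ d := by
  classical
  obtain ⟨n, O, U, hO, hU, hOU, hcov⟩ := exists_affine_cover_pair f
  have key : ∀ i, ∃ d : ℕ, ∀ (Ω : Type u) [Field Ω] (η : Spec (CommRingCat.of Ω) ⟶ Y),
      Finite (Pts ((O i).ι ≫ f) η) ∧ Nat.card (Pts ((O i).ι ≫ f) η) ≤ d := by
    intro i
    have : IsAffine (O i).toScheme := hO i
    have : IsAffine (U i).toScheme := hU i
    let fi := f.resLE (U i) (O i) (hOU i)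
    have hfi : fi ≫ (U i).ι = (O i).ι ≫ f := Scheme.Hom.resLE_comp_ι _ _
    have : LocallyQuasiFinite (fi ≫ (U i).ι) := by rw [hfi]; infer_instance
    have : LocallyOfFiniteType (fi ≫ (U i).ι) := by rw [hfi]; infer_instance
    have : LocallyQuasiFinite fi := .of_comp _ (U i).ι
    have : LocallyOfFiniteType fi := locallyOfFiniteType_of_comp _ (U i).ι
    obtain ⟨d, hd⟩ := exists_bound_pts_affine fi
    refine ⟨d, fun Ω _ η => ?_⟩
    rcases isEmpty_or_nonempty (Pts ((O i).ι ≫ f) η) with he | ⟨⟨s₀⟩⟩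
    · exact ⟨inferInstance, by simp⟩
    obtain ⟨h1, h2⟩ := hd Ω (s₀.1 ≫ fi)
    let Φ : Pts ((O i).ι ≫ f) η → Pts fi (s₀.1 ≫ fi) := fun s => ⟨s.1, by
      rw [← cancel_mono (U i).ι, Category.assoc, Category.assoc, hfi, s.2, s₀.2]⟩
    have hΦ : Function.Injective Φ := fun s t h => Subtype.ext congr($(h).1)
    exact ⟨Finite.of_injective Φ hΦ, (Nat.card_le_card_of_injective Φ hΦ).trans h2⟩
  choose d hd using key
  refine ⟨∑ i, d i, fun Ω _ η => ?_⟩
  have : ∀ i, Finite (Pts ((O i).ι ≫ f) η) := fun i => (hd i Ω η).1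
  let Ψ : (Σ i, Pts ((O i).ι ≫ f) η) → Pts f η := fun p => ⟨p.2.1 ≫ (O p.1).ι, by rw [Category.assoc, p.2.2]⟩
  have hΨ : Function.Surjective Ψ := by
    intro s
    obtain ⟨i, hi⟩ := hcov (pt s.1)
    have hs : Set.range s.1 ⊆ Set.range (O i).ι := by
      rintro _ ⟨x, rfl⟩
      rw [Subsingleton.elim x (IsLocalRing.closedPoint Ω), Scheme.Opens.range_ι]
      exact hi
    exact ⟨⟨i, IsOpenImmersion.lift (O i).ι s.1 hs, by rw [IsOpenImmersion.lift_fac_assoc, s.2]⟩,
      Subtype.ext (IsOpenImmersion.lift_fac _ _ _)⟩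
  refine ⟨Finite.of_surjective Ψ hΨ, (Nat.card_le_card_of_surjective Ψ hΨ).trans ?_⟩
  rw [Nat.card_sigma]
  exact Finset.sum_le_sum fun i _ => (hd i Ω η).2

theorem discreteTopology_geomFiber (f : X ⟶ Y) [LocallyQuasiFinite f] (y : Y) :
    DiscreteTopology ↥(MoreMor.geomFiber f y) := by
  have : LocallyQuasiFinite (f.fiberToSpecResidueField y) :=
    MorphismProperty.pullback_snd (P := @LocallyQuasiFinite) _ _ inferInstance
  have : IsLocallyArtinian (MoreMor.geomFiber f y) :=
    IsLocallyArtinian.of_locallyQuasiFinite (pullback.snd (f.fiberToSpecResidueField y) _)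
  infer_instance

theorem nGeomIrredComp_eq_card (f : X ⟶ Y) [LocallyQuasiFinite f] (y : Y) :
    MoreMor.nGeomIrredComp f y = ENat.card ↥(MoreMor.geomFiber f y) := by
  have := discreteTopology_geomFiber f y
  rw [MoreMor.nGeomIrredComp, ← Set.encard_univ]
  have hsub : ∀ t : Set ↥(MoreMor.geomFiber f y), IsPreirreducible t → t.Subsingleton := fun t ht =>
    IsDiscrete.subsingleton_of_isPreirreducible ⟨inferInstance⟩ ht
  have : irreducibleComponents ↥(MoreMor.geomFiber f y) = (fun z => {z}) '' Set.univ := by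
    ext t
    constructor
    · rintro ⟨ht, -⟩
      obtain ⟨z, hz⟩ := ht.nonempty
      exact ⟨z, trivial, (((hsub t ht.isPreirreducible).eq_singleton_of_mem hz)).symm⟩
    · rintro ⟨z, -, rfl⟩
      exact ⟨isIrreducible_singleton, fun t ht hzt w hw => hsub t ht.isPreirreducible hw (hzt rfl)⟩
  rw [this, Set.singleton_injective.injOn.encard_image]

theorem nGeomConnComp_eq_card (f : X ⟶ Y) [LocallyQuasiFinite f] (y : Y) :
    MoreMor.nGeomConnComp f y = ENat.card ↥(MoreMor.geomFiber f y) := by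
  have := discreteTopology_geomFiber f y
  refine (ENat.card_congr (Equiv.ofBijective (ConnectedComponents.mk) ⟨fun a b h => ?_,
    ConnectedComponents.surjective_coe⟩)).symm
  have := ConnectedComponents.coe_eq_coe.1 h
  rw [connectedComponent_eq_singleton, connectedComponent_eq_singleton] at this
  exact Set.singleton_injective this

theorem nGeomConnComp_le (f : X ⟶ Y) [LocallyQuasiFinite f] [LocallyOfFiniteType f] [CompactSpace X] :
    ∃ d : ℕ, ∀ y : Y, MoreMor.nGeomConnComp f y ≤ d := by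
  obtain ⟨d, hd⟩ := exists_bound_pts f
  refine ⟨d, fun y => ?_⟩
  rw [nGeomConnComp_eq_card]
  let K := SeparableClosure (Y.residueField y)
  let Ω := AlgebraicClosure K
  let ζ : Spec (CommRingCat.of Ω) ⟶ Spec (CommRingCat.of K) :=
    Spec.map (CommRingCat.ofHom (algebraMap K Ω))
  let ρ : Spec (CommRingCat.of K) ⟶ Spec (Y.residueField y) :=
    Spec.map (CommRingCat.ofHom (algebraMap (Y.residueField y) K))
  obtain ⟨h1, h2⟩ := hd Ω (ζ ≫ ρ ≫ Y.fromSpecResidueField y)
  let p := pullback.snd (f.fiberToSpecResidueField y) ρ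
  have : LocallyQuasiFinite p := MorphismProperty.pullback_snd (P := @LocallyQuasiFinite) _ _
    (MorphismProperty.pullback_snd (P := @LocallyQuasiFinite) _ _ inferInstance)
  have : LocallyOfFiniteType p := MorphismProperty.pullback_snd (P := @LocallyOfFiniteType) _ _
    (MorphismProperty.pullback_snd (P := @LocallyOfFiniteType) _ _ inferInstance)
  choose t ht using fun z : ↥(MoreMor.geomFiber f y) => exists_pts p ζ z (Subsingleton.elim _ _)
  let Φ : ↥(MoreMor.geomFiber f y) → Pts f (ζ ≫ ρ ≫ Y.fromSpecResidueField y) := fun z =>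
    ⟨(t z).1 ≫ pullback.fst _ _ ≫ f.fiberι y, by
      rw [Category.assoc, Category.assoc, f.fiber_fac y, pullback.condition_assoc, ← Category.assoc, (t z).2]⟩
  have hΦ : Function.Injective Φ := by
    intro z z' h
    have e : (t z).1 = (t z').1 := by
      apply pullback.hom_ext
      · apply pullback.hom_ext
        · simp only [Category.assoc]; exact congr($(h).1)
        · simp only [Category.assoc]
          erw [pullback.condition, reassoc_of% (t z).2, reassoc_of% (t z').2]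
      · exact (t z).2.trans (t z').2.symm
    rw [← ht z, ← ht z', e]
  have := Finite.of_injective Φ hΦ
  rw [ENat.card_eq_coe_natCard]
  exact_mod_cast (Nat.card_le_card_of_injective Φ hΦ).trans h2

end Groth.Agent.H7Weight
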