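import Mathlib.FieldTheory.PurelyInseparable.Basic
import Mathlib.FieldTheory.IsAlgClosed.Basic
import Mathlib.RingTheory.Ideal.GoingUp
import Mathlib.RingTheory.IntegralClosure.IsIntegralClosure.Basic
import Mathlib.Algebra.CharP.Reduced

/-!
# Spreading out the property of having a single geometric point in a fibre
-/

set_option autoImplicit false
set_option backward.isDefEq.respectTransparency false
set_option linter.style.haveILetI false

universe u

namespace Groth.Agent.H7Weight

variable {A B : Type u} [CommRing A] [CommRing B] [Algebra A B]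

theorem exists_pow_relation [Module.Finite A B] {Ω : Type u} [Field Ω] [IsAlgClosed Ω] (η : A →+* Ω)
    (huniq : ∀ φ ψ : B →+* Ω, φ.comp (algebraMap A B) = η → ψ.comp (algebraMap A B) = η → φ = ψ)
    (q : ℕ) [ExpChar Ω q] (b : B) :
    ∃ (n : ℕ) (s a : A), η s ≠ 0 ∧
      ∀ φ : B →+* Ω, φ.comp (algebraMap A B) = η → η s * φ b ^ q ^ n = η a := by
  classical
  by_cases h : ∃ φ : B →+* Ω, φ.comp (algebraMap A B) = η
  swap
  · exact ⟨0, 1, 0, by simp, fun φ hφ => absurd ⟨φ, hφ⟩ h⟩
  obtain ⟨φ, hφ⟩ := h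
  let K : Subfield Ω := Subfield.closure (Set.range η)
  have hK : ∀ a, η a ∈ K := fun a => Subfield.subset_closure ⟨a, rfl⟩
  let L : IntermediateField K Ω := IntermediateField.adjoin K (Set.range φ)
  have hint : ∀ b', IsIntegral K (φ b') := by
    intro b'
    obtain ⟨P, hPm, hP⟩ := Algebra.IsIntegral.isIntegral (R := A) b'
    refine ⟨P.map (η.codRestrict K hK), hPm.map _, ?_⟩
    rw [Polynomial.eval₂_map, show (algebraMap K Ω).comp (η.codRestrict K hK) = η from rfl, ← hφ,
      ← Polynomial.hom_eval₂, hP, map_zero]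
  have : Algebra.IsAlgebraic K L := IntermediateField.isAlgebraic_adjoin (by rintro _ ⟨b', rfl⟩; exact hint b')
  have hsub : Subsingleton (L →ₐ[K] Ω) := by
    refine ⟨fun σ τ => ?_⟩
    have key : ∀ σ : L →ₐ[K] Ω, ∀ b', σ ⟨φ b', IntermediateField.subset_adjoin K _ ⟨b', rfl⟩⟩ = φ b' := by
      intro σ b'
      let φL : B →+* L := φ.codRestrict L fun b' => IntermediateField.subset_adjoin K _ ⟨b', rfl⟩
      have : σ.toRingHom.comp φL = φ := by
        refine huniq _ _ ?_ hφ
        ext a
        show σ ⟨φ (algebraMap A B a), _⟩ = η a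
        have e : (⟨φ (algebraMap A B a), IntermediateField.subset_adjoin K _ ⟨_, rfl⟩⟩ : L) =
            algebraMap K L ⟨η a, hK a⟩ := Subtype.ext congr($hφ a)
        rw [e, σ.commutes]
        rfl
      exact congr($this b')
    refine IntermediateField.algHom_ext_of_eq_adjoin _ rfl ?_
    rintro _ ⟨b', rfl⟩
    rw [key, key]
  have : IsPurelyInseparable K L := by
    rw [isPurelyInseparable_iff_finSepDegree_eq_one, Field.finSepDegree_eq_of_isAlgClosed K L Ω]
    exact Nat.card_eq_one_iff_unique.2 ⟨hsub, ⟨L.val⟩⟩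
  have : ExpChar K q := expChar_of_injective_ringHom (algebraMap K Ω).injective q |> fun _ => by
    exact (RingHom.expChar_iff (algebraMap K Ω) (algebraMap K Ω).injective q).2 inferInstance
  obtain ⟨n, c, hc⟩ := IsPurelyInseparable.pow_mem K q
    (⟨φ b, IntermediateField.subset_adjoin K _ ⟨b, rfl⟩⟩ : L)
  obtain ⟨y, hy, z, hz, hyz⟩ := Subfield.mem_closure_iff.1 c.2
  rw [← RingHom.coe_range, Subring.closure_eq] at hy hz
  obtain ⟨a, rfl⟩ := hy
  obtain ⟨s, rfl⟩ := hz
  have hc' : (c : Ω) = φ b ^ q ^ n := congr(($hc : Ω))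
  by_cases hs : η s = 0
  · refine ⟨n, 1, 0, by simp, fun ψ hψ => ?_⟩
    rw [huniq ψ φ hψ hφ, ← hc', ← hyz, hs, div_zero, map_zero, map_one, one_mul]
  · refine ⟨n, s, a, hs, fun ψ hψ => ?_⟩
    rw [huniq ψ φ hψ hφ, ← hc', ← hyz, mul_div_cancel₀ _ hs]

theorem exists_constructible_subsingleton_homs [Module.Finite A B] {Ω : Type u} [Field Ω] [IsAlgClosed Ω]
    (η : A →+* Ω)
    (huniq : ∀ φ ψ : B →+* Ω, φ.comp (algebraMap A B) = η → ψ.comp (algebraMap A B) = η → φ = ψ) :
    ∃ (S : Finset A) (s : A), (∀ a ∈ S, η a = 0) ∧ η s ≠ 0 ∧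
      ∀ (Ω' : Type u) [Field Ω'] [IsAlgClosed Ω'] (η' : A →+* Ω'), (∀ a ∈ S, η' a = 0) → η' s ≠ 0 →
        ∀ φ ψ : B →+* Ω', φ.comp (algebraMap A B) = η' → ψ.comp (algebraMap A B) = η' → φ = ψ := by
  classical
  obtain ⟨q, hq⟩ := ExpChar.exists Ω
  obtain ⟨gens, hgens⟩ := Module.Finite.fg_top (R := A) (M := B)
  choose n s a hs hrel using exists_pow_relation η huniq q
  let p := RingHom.ker η
  have : p.IsPrime := RingHom.ker_isPrime η
  have key : ∀ b : B, ∃ (t : A) (N : ℕ), η t ≠ 0 ∧
      algebraMap A B t * (algebraMap A B (s b) * b ^ q ^ n b - algebraMap A B (a b)) ^ N ∈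
        p.map (algebraMap A B) := by
    intro b
    let z := algebraMap A B (s b) * b ^ q ^ n b - algebraMap A B (a b)
    by_contra hne
    simp only [not_exists, not_and] at hne
    let M : Submonoid B := (p.primeCompl.map (algebraMap A B)) ⊔ Submonoid.powers z
    have hdis : Disjoint ((p.map (algebraMap A B) : Ideal B) : Set B) (M : Set B) := by
      rw [Set.disjoint_right]
      intro m hm
      obtain ⟨y, hy, w, hw, rfl⟩ := Submonoid.mem_sup.1 hm
      obtain ⟨t, ht, rfl⟩ := hy
      obtain ⟨N, rfl⟩ := hw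
      exact hne t N ht
    obtain ⟨Q, hQ, hpQ, hQM⟩ := Ideal.exists_le_prime_disjoint _ M hdis
    have hover : Q.under A = p := by
      refine le_antisymm (fun x hx => ?_) (Ideal.map_le_iff_le_comap.1 hpQ)
      by_contra hxp
      exact Set.disjoint_left.1 hQM hx (Submonoid.mem_sup_left ⟨x, hxp, rfl⟩)
    have : Q.LiesOver p := ⟨hover.symm⟩
    letI : Algebra (A ⧸ p) Ω := (RingHom.kerLift η).toAlgebra
    have : Module.IsTorsionFree (A ⧸ p) Ω :=
      Module.isTorsionFree_iff_algebraMap_injective.2 (RingHom.kerLift_injective η)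
    have : Module.IsTorsionFree (A ⧸ p) (B ⧸ Q) :=
      Module.isTorsionFree_iff_algebraMap_injective.2 fun x y hxy => by
        obtain ⟨x, rfl⟩ := Ideal.Quotient.mk_surjective x
        obtain ⟨y, rfl⟩ := Ideal.Quotient.mk_surjective y
        rw [Ideal.Quotient.eq]
        have : algebraMap A B x - algebraMap A B y ∈ Q := Ideal.Quotient.eq.1 hxy
        rw [← map_sub] at this
        rw [← hover]
        exact this
    have : Algebra.IsAlgebraic (A ⧸ p) (B ⧸ Q) := by
      have : Module.Finite A (B ⧸ Q) := .of_surjective (Ideal.Quotient.mkₐ A Q).toLinearMap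
        Ideal.Quotient.mk_surjective
      have : Module.Finite (A ⧸ p) (B ⧸ Q) := Module.Finite.of_restrictScalars_finite A _ _
      infer_instance
    let σ : (B ⧸ Q) →ₐ[A ⧸ p] Ω := IsAlgClosed.lift
    let φ : B →+* Ω := σ.toRingHom.comp (Ideal.Quotient.mk Q)
    have hφ : φ.comp (algebraMap A B) = η := by
      ext x
      exact σ.commutes (Ideal.Quotient.mk p x)
    have hz : φ z = 0 := by
      rw [map_sub, map_mul, map_pow, show φ (algebraMap A B (s b)) = η (s b) from congr($hφ _),
        show φ (algebraMap A B (a b)) = η (a b) from congr($hφ _), hrel b φ hφ, sub_self]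
    have : Ideal.Quotient.mk Q z = 0 := by
      have hσ : Function.Injective σ := by
        refine (injective_iff_map_eq_zero σ).2 fun y hy => ?_
        by_contra hy0
        obtain ⟨P, hP, hP0⟩ : ∃ x : A ⧸ p, x ≠ 0 ∧ algebraMap (A ⧸ p) (B ⧸ Q) x ∈ Ideal.span {y} := by
          obtain ⟨x, hx0, hx⟩ := (Algebra.IsAlgebraic.isAlgebraic (R := A ⧸ p) y).exists_nonzero_dvd
            (mem_nonZeroDivisors_of_ne_zero hy0)
          exact ⟨x, hx0, Ideal.mem_span_singleton.2 hx⟩
        obtain ⟨w, hw⟩ := Ideal.mem_span_singleton'.1 hP0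
        have := congrArg σ hw
        rw [map_mul, hy, mul_zero, σ.commutes] at this
        exact hP (RingHom.kerLift_injective η (this.symm.trans (map_zero _).symm))
      exact hσ (hz.trans (map_zero σ).symm)
    exact Set.disjoint_left.1 hQM (Ideal.Quotient.eq_zero_iff_mem.1 this)
      (Submonoid.mem_sup_right (Submonoid.mem_powers z))
  choose t N ht hmem using key
  have hfg : ∀ b, ∃ S : Finset A, (↑S : Set A) ⊆ p ∧
      algebraMap A B (t b) * (algebraMap A B (s b) * b ^ q ^ n b - algebraMap A B (a b)) ^ N b ∈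
        (Ideal.span (S : Set A)).map (algebraMap A B) := by
    intro b
    have h := hmem b
    rw [Ideal.map, Ideal.span] at h
    obtain ⟨T, hT, hT'⟩ := Submodule.mem_span_finite_of_mem_span h
    obtain ⟨S, hS, rfl⟩ := Finset.subset_set_image_iff.1 hT
    refine ⟨S, hS, ?_⟩
    rw [Finset.coe_image] at hT'
    rw [Ideal.map_span]
    exact hT'
  choose T hTp hT using hfg
  refine ⟨gens.biUnion T ∪ (if q = 1 then ∅ else {(q : A)}), ∏ b ∈ gens, (t b * s b), ?_, ?_, ?_⟩
  · intro x hx
    rcases Finset.mem_union.1 hx with hx | hx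
    · obtain ⟨b, -, hb⟩ := Finset.mem_biUnion.1 hx
      exact hTp b hb
    · split_ifs at hx with hq1
      · simp at hx
      · rw [Finset.mem_singleton.1 hx, map_natCast]
        rcases hq with _ | ⟨hprime⟩
        · exact absurd rfl hq1
        · exact CharP.cast_eq_zero Ω q
  · rw [map_prod]
    exact Finset.prod_ne_zero_iff.2 fun b _ => by rw [map_mul]; exact mul_ne_zero (ht b) (hs b)
  intro Ω' _ _ η' hS hne φ ψ hφ hψ
  have hroot : ∀ b ∈ gens, φ b = ψ b := by
    intro b hb
    have hts := Finset.prod_ne_zero_iff.1 (by rwa [map_prod] at hne) b hb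
    rw [map_mul] at hts
    have : ∀ χ : B →+* Ω', χ.comp (algebraMap A B) = η' → η' (s b) * χ b ^ q ^ n b = η' (a b) := by
      intro χ hχ
      have h0 : χ (algebraMap A B (t b) *
          (algebraMap A B (s b) * b ^ q ^ n b - algebraMap A B (a b)) ^ N b) = 0 := by
        have hle : (Ideal.span (T b : Set A)).map (algebraMap A B) ≤ RingHom.ker χ := by
          rw [Ideal.map_span, Ideal.span_le]
          rintro _ ⟨x, hx, rfl⟩
          show χ (algebraMap A B x) = 0
          rw [← RingHom.comp_apply, hχ]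
          exact hS x (Finset.mem_union_left _ (Finset.mem_biUnion.2 ⟨b, hb, hx⟩))
        exact hle (hT b)
      rw [map_mul, map_pow, map_sub, map_mul, map_pow, ← RingHom.comp_apply χ, hχ,
        ← RingHom.comp_apply χ, hχ, ← RingHom.comp_apply χ, hχ] at h0
      exact sub_eq_zero.1 (pow_eq_zero_iff'.1 ((mul_eq_zero.1 h0).resolve_left (left_ne_zero_of_mul hts))).1
    have e : φ b ^ q ^ n b = ψ b ^ q ^ n b :=
      mul_left_cancel₀ (right_ne_zero_of_mul hts) ((this φ hφ).trans (this ψ hψ).symm)
    by_cases hq1 : q = 1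
    · subst hq1; simpa using e
    · rcases hq with _ | ⟨hprime⟩
      · exact absurd rfl hq1
      · have : CharP Ω' q := by
          refine (CharP.charP_iff_prime_eq_zero hprime).2 ?_
          rw [← map_natCast η']
          exact hS _ (Finset.mem_union_right _ (by rw [if_neg hq1]; exact Finset.mem_singleton_self _))
        have : ExpChar Ω' q := .prime hprime
        exact iterateFrobenius_inj Ω' q (n b) e
  refine RingHom.ext fun x => ?_
  have hx : x ∈ Submodule.span A (gens : Set B) := hgens ▸ Submodule.mem_top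
  induction hx using Submodule.span_induction with
  | mem x hx => exact hroot x hx
  | zero => simp
  | add x y _ _ hx hy => rw [map_add, map_add, hx, hy]
  | smul r x _ hx =>
    rw [Algebra.smul_def, map_mul, map_mul, hx, ← RingHom.comp_apply φ, hφ, ← RingHom.comp_apply ψ, hψ]

end Groth.Agent.H7Weight
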