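import Groth.Agent.H7Weight.Basic
import Groth.Agent.H7Weight.Bound
import Groth.Agent.H7Weight.RingRadicial
import Groth.Agent.H28Top.Spectral
import Mathlib.AlgebraicGeometry.Morphisms.FinitePresentation

/-!
# Constructibility of the level sets of weightings
-/

set_option autoImplicit false
set_option backward.isDefEq.respectTransparency false
set_option linter.style.haveILetI false

universe u

open AlgebraicGeometry CategoryTheory Limits Topology

namespace Groth.Agent.H7Weight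

variable {Ω : Type u} [Field Ω] {X Y V : Scheme.{u}}

/-- Evaluation of a global section at a field valued point. -/
noncomputable def evalAt (η : Spec (CommRingCat.of Ω) ⟶ V) : Γ(V, ⊤) →+* Ω :=
  (η.appTop ≫ (Scheme.ΓSpecIso (CommRingCat.of Ω)).hom).hom

theorem pt_mem_basicOpen_iff (η : Spec (CommRingCat.of Ω) ⟶ V) (a : Γ(V, ⊤)) :
    pt η ∈ V.basicOpen a ↔ evalAt η a ≠ 0 := by
  show IsLocalRing.closedPoint Ω ∈ η ⁻¹ᵁ V.basicOpen a ↔ _
  rw [Scheme.preimage_basicOpen_top, basicOpen_eq_of_affine']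
  show evalAt η a ∉ (IsLocalRing.maximalIdeal Ω) ↔ _
  rw [IsLocalRing.isField_iff_maximalIdeal_eq.1 (Field.toIsField Ω), Ideal.mem_bot]

theorem exists_constructible_radicial [IsAlgClosed Ω] {U : Scheme.{u}} (π : U ⟶ V) [IsFinite π] [IsAffine V]
    (η : Spec (CommRingCat.of Ω) ⟶ V) (h : Subsingleton (Pts π η)) :
    ∃ Z : Set V, IsConstructible Z ∧ pt η ∈ Z ∧ ∀ (Ω' : Type u) [Field Ω'] [IsAlgClosed Ω']
      (η' : Spec (CommRingCat.of Ω') ⟶ V), pt η' ∈ Z → Subsingleton (Pts π η') := by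
  classical
  have : IsAffine U := isAffine_of_isAffineHom π
  have hfin : π.appTop.hom.Finite := π.finite_app _ (isAffineOpen_top V)
  algebraize [π.appTop.hom]
  have heval : ∀ {Ω' : Type u} [Field Ω'] {η' : Spec (CommRingCat.of Ω') ⟶ V} (s : Pts π η'),
      (evalAt s.1).comp π.appTop.hom = evalAt η' := by
    intro Ω' _ η' s
    have : π.appTop ≫ s.1.appTop = η'.appTop := by rw [← Scheme.Hom.comp_appTop, s.2]
    show (π.appTop ≫ s.1.appTop ≫ (Scheme.ΓSpecIso (CommRingCat.of Ω')).hom).hom = _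
    rw [reassoc_of% this]
    rfl
  have huniq : ∀ φ ψ : Γ(U, ⊤) →+* Ω, φ.comp (algebraMap Γ(V, ⊤) Γ(U, ⊤)) = evalAt η →
      ψ.comp (algebraMap Γ(V, ⊤) Γ(U, ⊤)) = evalAt η → φ = ψ := by
    intro φ ψ hφ hψ
    have mk : ∀ χ : Γ(U, ⊤) →+* Ω, χ.comp (algebraMap Γ(V, ⊤) Γ(U, ⊤)) = evalAt η →
        ∃ s : Pts π η, evalAt s.1 = χ := by
      intro χ hχ
      let s₀ := Spec.map (CommRingCat.ofHom χ) ≫ U.isoSpec.inv
      have hs : s₀.appTop ≫ (Scheme.ΓSpecIso (CommRingCat.of Ω)).hom = CommRingCat.ofHom χ := by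
        have e : U.isoSpec.inv.appTop ≫ (Scheme.ΓSpecIso Γ(U, ⊤)).hom = 𝟙 _ := by
          rw [← Scheme.toSpecΓ_appTop]
          show U.isoSpec.inv.appTop ≫ U.isoSpec.hom.appTop = _
          rw [← Scheme.Hom.comp_appTop, Iso.hom_inv_id, Scheme.Hom.id_appTop]
        rw [Scheme.Hom.comp_appTop, Category.assoc, Scheme.ΓSpecIso_naturality, ← Category.assoc]
        exact (congrArg (· ≫ CommRingCat.ofHom χ) e).trans (Category.id_comp _)
      refine ⟨⟨s₀, ext_of_isAffine ?_⟩, congr(($hs).hom)⟩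
      rw [← cancel_mono (Scheme.ΓSpecIso (CommRingCat.of Ω)).hom, Scheme.Hom.comp_appTop, Category.assoc, hs]
      exact CommRingCat.hom_ext hχ
    obtain ⟨s, rfl⟩ := mk φ hφ
    obtain ⟨t, rfl⟩ := mk ψ hψ
    rw [Subsingleton.elim s t]
  obtain ⟨S, s, hS, hs, hrad⟩ := exists_constructible_subsingleton_homs (evalAt η) huniq
  have hc : ∀ a : Γ(V, ⊤), IsConstructible (V.basicOpen a : Set V) := fun a =>
    (((isAffineOpen_top V).basicOpen a).isCompact).isConstructible (V.basicOpen a).2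
  refine ⟨(V.basicOpen s : Set V) ∩ (⋃ a ∈ (S : Set Γ(V, ⊤)), (V.basicOpen a : Set V))ᶜ,
    (hc s).inter (IsConstructible.biUnion S.finite_toSet fun a _ => hc a).compl,
    ⟨(pt_mem_basicOpen_iff η s).2 hs, ?_⟩, fun Ω' _ _ η' hη' => ⟨fun p q => ?_⟩⟩
  · simp only [Set.mem_compl_iff, Set.mem_iUnion, not_exists]
    exact fun a ha hmem => (pt_mem_basicOpen_iff η a).1 hmem (hS a ha)
  · have := hrad Ω' (evalAt η') (fun a ha => by
      by_contra hne
      exact hη'.2 (Set.mem_biUnion ha ((pt_mem_basicOpen_iff η' a).2 hne)))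
      ((pt_mem_basicOpen_iff η' s).1 hη'.1) (evalAt p.1) (evalAt q.1) (heval p) (heval q)
    refine Subtype.ext (ext_of_isAffine ?_)
    rw [← cancel_mono (Scheme.ΓSpecIso (CommRingCat.of Ω')).hom]
    exact CommRingCat.hom_ext this

/-- A function constant on a constructible set around every point has constructible level sets. -/
theorem levels_of_locally_const {T : Type u} [TopologicalSpace T] [CompactSpace T] [QuasiSober T]
    [PrespectralSpace T] [QuasiSeparatedSpace T] {α : Type*} (w : T → α)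
    (h : ∀ x : T, ∃ E : Set T, IsConstructible E ∧ x ∈ E ∧ ∀ y ∈ E, w y = w x) :
    (Set.range w).Finite ∧ ∀ n, IsConstructible {x | w x = n} := by
  choose E hE hxE hconst using h
  obtain ⟨t, ht⟩ := @IsCompact.elim_finite_subcover T (constructibleTopology T) Set.univ T
    (@CompactSpace.isCompact_univ T (constructibleTopology T) (H28Top.compactSpace_constr T)) E
    (fun x => H28Top.isOpen_constr_of_isConstructible (hE x)) (fun x _ => Set.mem_iUnion.2 ⟨x, hxE x⟩)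
  refine ⟨(t.finite_toSet.image w).subset ?_, fun n => ?_⟩
  · rintro _ ⟨y, rfl⟩
    obtain ⟨x, hx, hy⟩ := Set.mem_iUnion₂.1 (ht (Set.mem_univ y))
    exact ⟨x, hx, (hconst x y hy).symm⟩
  · have : {x | w x = n} = ⋃ x ∈ {x | x ∈ t ∧ w x = n}, E x := by
      ext y
      constructor
      · intro hy
        obtain ⟨x, hx, hy'⟩ := Set.mem_iUnion₂.1 (ht (Set.mem_univ y))
        exact Set.mem_iUnion₂.2 ⟨x, ⟨hx, (hconst x y hy').symm.trans hy⟩, hy'⟩
      · intro hy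
        obtain ⟨x, ⟨-, hx⟩, hy'⟩ := Set.mem_iUnion₂.1 hy
        exact (hconst x y hy').trans hx
    rw [this]
    exact IsConstructible.biUnion (t.finite_toSet.subset fun x hx => hx.1) fun x _ => hE x

section

variable {f : X ⟶ Y} [LocallyQuasiFinite f] [LocallyOfFiniteType f] {w : X → ℤ}

theorem exists_constructible_const (hw : MoreMor.IsWeighting f w) {X₀ : X.Opens} (hX₀ : IsAffineOpen X₀)
    (x : X₀) : ∃ E : Set X₀, IsConstructible E ∧ x ∈ E ∧ ∀ y ∈ E, w y.1 = w x.1 := by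
  obtain ⟨Ω, _, _, η, hη⟩ := exists_geomPt' (f x.1)
  obtain ⟨s, hs⟩ := exists_pts f η x.1 hη.symm
  obtain ⟨V, g, _, η', hη', ⟨D⟩⟩ := exists_single f η s
  obtain ⟨V₀, hV₀, hconst⟩ := D.C.exists_nhds_const hw η'
  obtain ⟨_, ⟨(W : V.Opens), (hW : IsAffineOpen W), rfl⟩, hvW, hWsub⟩ :=
    V.isBasis_affineOpens.exists_subset_of_mem_open hV₀ V₀.2
  obtain ⟨η₁, hη₁⟩ : ∃ η₁ : Spec (CommRingCat.of Ω) ⟶ W, η₁ ≫ W.ι = η' := by
    refine ⟨IsOpenImmersion.lift W.ι η' ?_, IsOpenImmersion.lift_fac _ _ _⟩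
    rintro _ ⟨z, rfl⟩
    rw [Subsingleton.elim z (IsLocalRing.closedPoint Ω), Scheme.Opens.range_ι]
    exact hvW
  let D₁ := D.baseChange W.ι hη₁
  have hsum : ∀ (Ω' : Type u) [Field Ω'] [IsAlgClosed Ω'] (η'' : Spec (CommRingCat.of Ω') ⟶ W),
      geomSum D₁.C.π (w ∘ D₁.C.a) η'' = w x.1 := by
    intro Ω' _ _ η''
    rw [← hs]
    exact (Chart.geomSum_baseChange D.C W.ι w η'').trans
      ((hconst Ω' _ (hWsub (pt η'').2)).trans (geomSum_single D w))
  have : IsAffine W.toScheme := hW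
  have : IsAffine D₁.C.U := isAffine_of_isAffineHom D₁.C.π
  obtain ⟨Z, hZ, hZmem, hZsub⟩ := exists_constructible_radicial D₁.C.π η₁
    ⟨fun a b => (D₁.unique a).trans (D₁.unique b).symm⟩
  have hu : D₁.C.a (pt D₁.p.1) = x.1 := (congr(pt $(D₁.p_a))).trans hs
  obtain ⟨_, ⟨(O : D₁.C.U.Opens), (hO : IsAffineOpen O), rfl⟩, huO, hOsub⟩ :=
    D₁.C.U.isBasis_affineOpens.exists_subset_of_mem_open
      (show pt D₁.p.1 ∈ D₁.C.a ⁻¹ᵁ X₀ by show D₁.C.a _ ∈ X₀; rw [hu]; exact x.2) (D₁.C.a ⁻¹ᵁ X₀).2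
  let a₀ : O.toScheme ⟶ X₀.toScheme := IsOpenImmersion.lift X₀.ι (O.ι ≫ D₁.C.a) (by
    rintro _ ⟨z, rfl⟩
    rw [Scheme.Opens.range_ι]
    exact hOsub z.2)
  have ha₀ : a₀ ≫ X₀.ι = O.ι ≫ D₁.C.a := IsOpenImmersion.lift_fac _ _ _
  have : Etale (W.ι ≫ g) := inferInstance
  have : Etale (a₀ ≫ X₀.ι) := by rw [ha₀]; infer_instance
  have : Etale a₀ := Etale.of_comp _ X₀.ι
  have : IsAffine O.toScheme := hO
  have : IsAffine X₀.toScheme := hX₀
  let πO : O.toScheme ⟶ W.toScheme := O.ι ≫ D₁.C.π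
  refine ⟨a₀ '' (πO ⁻¹' Z), a₀.isConstructible_image (hZ.preimage (O.ι ≫ D₁.C.π).continuous fun s hs hs' =>
      (IsCompact.isRetrocompact ((O.ι ≫ D₁.C.π).isCompact_preimage (U := ⟨_, hs⟩) hs'.isCompact)
        (hs.preimage (O.ι ≫ D₁.C.π).continuous))),
    ⟨⟨pt D₁.p.1, huO⟩, ?_, ?_⟩, ?_⟩
  · show D₁.C.π (pt D₁.p.1) ∈ Z
    rw [D₁.p.map_pt]
    exact hZmem
  · exact Subtype.ext ((congr($ha₀ (⟨pt D₁.p.1, huO⟩ : O.toScheme))).trans hu)
  rintro _ ⟨z, hz, rfl⟩
  obtain ⟨Ω', _, _, η'', hη''⟩ := exists_geomPt' (D₁.C.π (O.ι z))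
  obtain ⟨q, hq⟩ := exists_pts D₁.C.π η'' (O.ι z) hη''.symm
  have := hZsub Ω' η'' (by rw [hη'']; exact hz)
  rw [show (a₀ z).1 = D₁.C.a (pt q.1) from (congr($ha₀ z)).trans (congrArg D₁.C.a hq.symm), ← hsum Ω' η'',
    geomSum, finsum_eq_single _ q fun r hr => absurd (Subsingleton.elim r q) hr]
  rfl

theorem isLocallyConstructible_levels (hw : MoreMor.IsWeighting f w) (n : ℤ) :
    IsLocallyConstructible {x : X | w x = n} := by
  intro x
  obtain ⟨_, ⟨(X₀ : X.Opens), (hX₀ : IsAffineOpen X₀), rfl⟩, hx, -⟩ :=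
    X.isBasis_affineOpens.exists_subset_of_mem_open (Set.mem_univ x) isOpen_univ
  have : IsAffine X₀.toScheme := hX₀
  exact ⟨X₀, X₀.2.mem_nhds hx, X₀.2,
    (levels_of_locally_const (T := X₀.toScheme) (fun y => w y.1) (exists_constructible_const hw hX₀)).2 n⟩

theorem finite_range_of_compactSpace [CompactSpace X] (hw : MoreMor.IsWeighting f w) :
    (Set.range w).Finite := by
  obtain ⟨n, O, U, hO, -, -, hcov⟩ := exists_affine_cover_pair f
  have : ∀ i, (Set.range fun y : (O i).toScheme => w y.1).Finite := fun i =>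
    have : IsAffine (O i).toScheme := hO i
    (levels_of_locally_const (T := (O i).toScheme) _ (exists_constructible_const hw (hO i))).1
  refine (Set.finite_iUnion this).subset ?_
  rintro _ ⟨x, rfl⟩
  obtain ⟨i, hi⟩ := hcov x
  exact Set.mem_iUnion.2 ⟨i, ⟨x, hi⟩, rfl⟩

theorem exists_fibreIntegral_max [CompactSpace X] [Nonempty Y] (hw : MoreMor.IsWeighting f w) :
    ∃ y₀ : Y, ∀ y : Y, MoreMor.fibreIntegral f w y ≤ MoreMor.fibreIntegral f w y₀ := by
  classical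
  obtain ⟨M, hM⟩ := (finite_range_of_compactSpace hw).bddAbove
  obtain ⟨d, hd⟩ := exists_bound_pts f
  have hbd : BddAbove (Set.range (MoreMor.fibreIntegral f w)) := by
    refine ⟨d * max M 0, ?_⟩
    rintro _ ⟨y, rfl⟩
    obtain ⟨Ω, _, _, η, rfl⟩ := exists_geomPt' y
    obtain ⟨h1, h2⟩ := hd Ω η
    rw [fibreIntegral_eq_of_finite_pts]
    cases nonempty_fintype (Pts f η)
    rw [geomSum, finsum_eq_sum_of_fintype]
    refine le_trans (Finset.sum_le_card_nsmul _ _ (max M 0) fun s _ =>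
      (hM ⟨_, rfl⟩).trans (le_max_left _ _)) ?_
    rw [Finset.card_univ, ← Nat.card_eq_fintype_card, nsmul_eq_mul]
    exact mul_le_mul_of_nonneg_right (by exact_mod_cast h2) (le_max_right _ _)
  obtain ⟨y₀, hy₀⟩ : sSup (Set.range (MoreMor.fibreIntegral f w)) ∈ Set.range (MoreMor.fibreIntegral f w) :=
    Int.csSup_mem (Set.range_nonempty _) hbd
  exact ⟨y₀, fun y => hy₀ ▸ le_csSup hbd ⟨y, rfl⟩⟩

end

end Groth.Agent.H7Weight
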