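import Groth.Prelude.Def_MoreMor
import Groth.Agent.H17.Fibre
import Mathlib.AlgebraicGeometry.Morphisms.QuasiFinite
import Mathlib.AlgebraicGeometry.ZariskisMainTheorem
import Mathlib.FieldTheory.SeparableDegree
import Mathlib.AlgebraicGeometry.Morphisms.Etale
import Mathlib.RingTheory.Unramified.LocalStructure

/-!
# Geometric points in fibres and fibre integrals

`fibreIntegral π w v` is the sum of `w` over the geometric points of `U` over a geometric point
lying over `v`.  Base change and composition then become formal.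
-/

set_option autoImplicit false
set_option backward.isDefEq.respectTransparency false
set_option linter.style.haveILetI false

universe u

open AlgebraicGeometry CategoryTheory Limits

namespace Groth.Agent.H7Weight

variable {Ω : Type u} [Field Ω] {U V W : Scheme.{u}}

/-- The image of the point of `Spec Ω`. -/
noncomputable abbrev pt (s : Spec (CommRingCat.of Ω) ⟶ U) : U := s (IsLocalRing.closedPoint Ω)

@[simp]
theorem pt_comp (s : Spec (CommRingCat.of Ω) ⟶ U) (π : U ⟶ V) : pt (s ≫ π) = π (pt s) := rfl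

/-- Lifts of a field valued point. -/
abbrev Pts (π : U ⟶ V) (η : Spec (CommRingCat.of Ω) ⟶ V) : Type u :=
  {s : Spec (CommRingCat.of Ω) ⟶ U // s ≫ π = η}

theorem Pts.map_pt {π : U ⟶ V} {η : Spec (CommRingCat.of Ω) ⟶ V} (s : Pts π η) : π (pt s.1) = pt η :=
  congr(pt $(s.2))

/-- The sum of `w` over the lifts of a field valued point. -/
noncomputable def geomSum (π : U ⟶ V) (w : U → ℤ) (η : Spec (CommRingCat.of Ω) ⟶ V) : ℤ :=
  ∑ᶠ s : Pts π η, w (pt s.1)

theorem exists_residue_hom {v : V} (η : Spec (CommRingCat.of Ω) ⟶ V) (h : pt η = v) :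
    ∃ σ : V.residueField v ⟶ CommRingCat.of Ω, Spec.map σ ≫ V.fromSpecResidueField v = η := by
  obtain ⟨⟨x, φ⟩, hφ⟩ := (Scheme.SpecToEquivOfField Ω V).symm.surjective η
  rw [Scheme.SpecToEquivOfField_symm_apply] at hφ
  subst hφ
  rw [pt_comp, Scheme.fromSpecResidueField_apply] at h
  subst h
  exact ⟨φ, rfl⟩

theorem pt_specMap {u : U} (τ : U.residueField u ⟶ CommRingCat.of Ω) :
    pt (Spec.map τ ≫ U.fromSpecResidueField u) = u :=
  Scheme.fromSpecResidueField_apply u _

theorem specMap_comp_eq (π : U ⟶ V) {u : U} (τ : U.residueField u ⟶ CommRingCat.of Ω) :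
    (Spec.map τ ≫ U.fromSpecResidueField u) ≫ π =
      Spec.map (π.residueFieldMap u ≫ τ) ≫ V.fromSpecResidueField (π u) := by
  rw [Spec.map_comp, Category.assoc, Category.assoc, π.SpecMap_residueFieldMap_fromSpecResidueField]

instance (priority := low) locallyQuasiFinite_of_etale (g : U ⟶ V) [Etale g] : LocallyQuasiFinite g := by
  rw [HasRingHomProperty.iff_appLE (P := @LocallyQuasiFinite)]
  intro W O e
  have h := HasRingHomProperty.appLE @Etale g ‹_› W O e
  algebraize [(g.appLE W.1 O.1 e).hom]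
  exact (inferInstance : Algebra.QuasiFinite Γ(V, W.1) Γ(U, O.1))

theorem finite_residue (π : U ⟶ V) [LocallyQuasiFinite π] [LocallyOfFiniteType π] (u : U) :
    (π.residueFieldMap u).hom.Finite :=
  H17.finite_residueFieldMap π u
    ((H17.quasiFiniteAt_iff_isClosed_and_max π u).1 (π.quasiFiniteAt u)).1

theorem card_pts_at [IsAlgClosed Ω] (π : U ⟶ V) [LocallyQuasiFinite π] [LocallyOfFiniteType π]
    (η : Spec (CommRingCat.of Ω) ⟶ V) (u : U) (h : π u = pt η) :
    letI := (π.residueFieldMap u).hom.toAlgebra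
    Finite {s : Pts π η // pt s.1 = u} ∧ Nonempty {s : Pts π η // pt s.1 = u} ∧
      Nat.card {s : Pts π η // pt s.1 = u} = Field.finSepDegree (V.residueField (π u)) (U.residueField u) := by
  letI := (π.residueFieldMap u).hom.toAlgebra
  have hfin : Module.Finite (V.residueField (π u)) (U.residueField u) := finite_residue π u
  obtain ⟨σ, hσ⟩ := exists_residue_hom η h.symm
  letI : Algebra (V.residueField (π u)) Ω := σ.hom.toAlgebra
  let Φ : (U.residueField u →ₐ[V.residueField (π u)] Ω) → {s : Pts π η // pt s.1 = u} := fun τ =>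
    ⟨⟨Spec.map (CommRingCat.ofHom τ.toRingHom) ≫ U.fromSpecResidueField u, by
      rw [specMap_comp_eq]
      rw [show π.residueFieldMap u ≫ CommRingCat.ofHom τ.toRingHom = σ from
        CommRingCat.hom_ext (RingHom.ext fun x => τ.commutes x)]
      exact hσ⟩, pt_specMap _⟩
  have hΦ : Function.Bijective Φ := by
    constructor
    · intro τ τ' e
      have e' : Spec.map (CommRingCat.ofHom τ.toRingHom) ≫ U.fromSpecResidueField u =
          Spec.map (CommRingCat.ofHom τ'.toRingHom) ≫ U.fromSpecResidueField u :=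
        congr($(e).1.1)
      rw [cancel_mono, Spec.map_inj] at e'
      exact AlgHom.ext fun x => congr($e' x)
    · rintro ⟨⟨s, hs⟩, hu⟩
      obtain ⟨τ, hτ⟩ := exists_residue_hom s hu
      have : π.residueFieldMap u ≫ τ = σ := by
        apply Spec.map_injective
        rw [← cancel_mono (V.fromSpecResidueField (π u)), hσ, ← specMap_comp_eq, hτ, hs]
      exact ⟨⟨τ.hom, fun x => congr($this x)⟩, Subtype.ext (Subtype.ext hτ)⟩
  let e := Equiv.ofBijective Φ hΦ
  refine ⟨.of_equiv _ e, ⟨e IsAlgClosed.lift⟩, ?_⟩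
  rw [Field.finSepDegree_eq_of_isAlgClosed _ _ Ω, Nat.card_congr e]

theorem exists_pts [IsAlgClosed Ω] (π : U ⟶ V) [LocallyQuasiFinite π] [LocallyOfFiniteType π]
    (η : Spec (CommRingCat.of Ω) ⟶ V) (u : U) (h : π u = pt η) : ∃ s : Pts π η, pt s.1 = u := by
  obtain ⟨⟨s, hs⟩⟩ := (card_pts_at π η u h).2.1
  exact ⟨s, hs⟩

theorem finite_pts [IsAlgClosed Ω] (π : U ⟶ V) [LocallyQuasiFinite π] [LocallyOfFiniteType π]
    (η : Spec (CommRingCat.of Ω) ⟶ V) (hfin : (π ⁻¹' {pt η}).Finite) : Finite (Pts π η) := by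
  have := hfin.to_subtype
  have : ∀ u : (π ⁻¹' {pt η} : Set U), Finite {s : Pts π η // pt s.1 = (u : U)} := fun u =>
    (card_pts_at π η u u.2).1
  refine Finite.of_surjective
    (fun p : (Σ u : (π ⁻¹' {pt η} : Set U), {s : Pts π η // pt s.1 = (u : U)}) => p.2.1) fun s => ?_
  exact ⟨⟨⟨pt s.1, s.map_pt⟩, s, rfl⟩, rfl⟩

theorem fibreIntegral_eq_geomSum [IsAlgClosed Ω] (π : U ⟶ V) [LocallyQuasiFinite π]
    [LocallyOfFiniteType π] (w : U → ℤ) (η : Spec (CommRingCat.of Ω) ⟶ V)
    (hfin : (π ⁻¹' {pt η}).Finite) :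
    MoreMor.fibreIntegral π w (pt η) = geomSum π w η := by
  classical
  have := finite_pts π η hfin
  cases nonempty_fintype (Pts π η)
  have : Finite {u : U // π u = pt η} := hfin.to_subtype
  cases nonempty_fintype {u : U // π u = pt η}
  rw [MoreMor.fibreIntegral, geomSum, finsum_eq_sum_of_fintype, finsum_eq_sum_of_fintype,
    ← Finset.sum_fiberwise (Finset.univ : Finset (Pts π η)) (fun s => (⟨pt s.1, s.map_pt⟩ : {u : U // π u = pt η}))]
  refine Finset.sum_congr rfl fun u _ => ?_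
  rw [Finset.sum_congr rfl (g := fun _ => w u.1) fun s hs => by rw [← (Finset.mem_filter.1 hs).2],
    Finset.sum_const, nsmul_eq_mul, mul_comm, ← (card_pts_at π η u.1 u.2).2.2]
  congr 2
  rw [Nat.card_eq_fintype_card, Fintype.card_subtype]
  congr 1
  ext s
  simp only [Finset.mem_filter, Finset.mem_univ, true_and, Subtype.ext_iff]

theorem finite_preimage_of_finite_pts [IsAlgClosed Ω] (π : U ⟶ V) [LocallyQuasiFinite π]
    [LocallyOfFiniteType π] (η : Spec (CommRingCat.of Ω) ⟶ V) [Finite (Pts π η)] :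
    (π ⁻¹' {pt η}).Finite :=
  (Set.finite_range fun s : Pts π η => pt s.1).subset fun u hu => exists_pts π η u hu

/-- A geometric point over a given point. -/
theorem exists_geomPt (v : V) :
    ∃ η : Spec (CommRingCat.of (AlgebraicClosure (V.residueField v))) ⟶ V, pt η = v :=
  ⟨Spec.map (CommRingCat.ofHom (algebraMap (V.residueField v) (AlgebraicClosure (V.residueField v)))) ≫
    V.fromSpecResidueField v, pt_specMap _⟩

theorem fibreIntegral_eq_of_finite_pts [IsAlgClosed Ω] (π : U ⟶ V) [LocallyQuasiFinite π]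
    [LocallyOfFiniteType π] (w : U → ℤ) (η : Spec (CommRingCat.of Ω) ⟶ V) [Finite (Pts π η)] :
    MoreMor.fibreIntegral π w (pt η) = geomSum π w η :=
  fibreIntegral_eq_geomSum π w η (finite_preimage_of_finite_pts π η)

theorem geomSum_congr {U' V' : Scheme.{u}} {π : U ⟶ V} {π' : U' ⟶ V'} {w : U → ℤ} {w' : U' → ℤ}
    {η : Spec (CommRingCat.of Ω) ⟶ V} {η' : Spec (CommRingCat.of Ω) ⟶ V'}
    (e : Pts π' η' ≃ Pts π η) (he : ∀ s, w (pt (e s).1) = w' (pt s.1)) :
    geomSum π' w' η' = geomSum π w η :=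
  finsum_eq_of_bijective e e.bijective fun s => (he s).symm

/-- Lifts along a base change. -/
noncomputable def ptsBaseChange {U' V' : Scheme.{u}} {π : U ⟶ V} {π' : U' ⟶ V'} {h : U' ⟶ U}
    {g : V' ⟶ V} (hc : IsPullback h π' π g) (η : Spec (CommRingCat.of Ω) ⟶ V') :
    Pts π' η ≃ Pts π (η ≫ g) where
  toFun s := ⟨s.1 ≫ h, by rw [Category.assoc, hc.w, ← Category.assoc, s.2]⟩
  invFun s := ⟨hc.lift s.1 η s.2, hc.lift_snd _ _ _⟩
  left_inv s := Subtype.ext (hc.hom_ext (hc.lift_fst _ _ _) ((hc.lift_snd _ _ _).trans s.2.symm))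
  right_inv s := Subtype.ext (hc.lift_fst _ _ _)

theorem geomSum_baseChange {U' V' : Scheme.{u}} {π : U ⟶ V} {π' : U' ⟶ V'} {h : U' ⟶ U}
    {g : V' ⟶ V} (hc : IsPullback h π' π g) (w : U → ℤ) (η : Spec (CommRingCat.of Ω) ⟶ V') :
    geomSum π' (w ∘ h) η = geomSum π w (η ≫ g) :=
  geomSum_congr (ptsBaseChange hc η) fun _ => rfl

/-- Lifts along a composition. -/
noncomputable def ptsComp (f : U ⟶ V) (g : V ⟶ W) (η : Spec (CommRingCat.of Ω) ⟶ W) :
    Pts (f ≫ g) η ≃ Σ t : Pts g η, Pts f t.1 where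
  toFun s := ⟨⟨s.1 ≫ f, by rw [Category.assoc, s.2]⟩, ⟨s.1, rfl⟩⟩
  invFun p := ⟨p.2.1, by rw [← Category.assoc, p.2.2, p.1.2]⟩
  left_inv _ := rfl
  right_inv := by
    rintro ⟨⟨t, ht⟩, ⟨s, (hs : s ≫ f = t)⟩⟩
    obtain rfl := hs
    rfl

theorem geomSum_comp (f : U ⟶ V) (g : V ⟶ W) (η : Spec (CommRingCat.of Ω) ⟶ W) (wf : U → ℤ)
    (wg : V → ℤ) [Finite (Pts g η)] (hfin : ∀ t : Pts g η, Finite (Pts f t.1)) :
    geomSum (f ≫ g) (fun x => wf x * wg (f x)) η = ∑ᶠ t : Pts g η, geomSum f wf t.1 * wg (pt t.1) := by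
  classical
  cases nonempty_fintype (Pts g η)
  have : ∀ t : Pts g η, Fintype (Pts f t.1) := fun t => @Fintype.ofFinite _ (hfin t)
  letI : Fintype (Pts (f ≫ g) η) := Fintype.ofEquiv _ (ptsComp f g η).symm
  simp only [geomSum, finsum_eq_sum_of_fintype]
  rw [← (ptsComp f g η).symm.sum_comp, Fintype.sum_sigma]
  refine Finset.sum_congr rfl fun t _ => ?_
  rw [Finset.sum_mul]
  refine Finset.sum_congr rfl fun s _ => ?_
  show wf (pt s.1) * wg (f (pt s.1)) = _
  rw [s.map_pt]

theorem geomSum_sigma {ι : Type*} [Finite ι] {A : ι → Scheme.{u}} (e : ∀ i, A i ⟶ U) (π : U ⟶ V)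
    (η : Spec (CommRingCat.of Ω) ⟶ V) (w : U → ℤ) [∀ i, Finite (Pts (e i ≫ π) η)]
    (hbij : Function.Bijective fun p : (Σ i, Pts (e i ≫ π) η) =>
      (⟨p.2.1 ≫ e p.1, by rw [Category.assoc, p.2.2]⟩ : Pts π η)) :
    geomSum π w η = ∑ᶠ i, geomSum (e i ≫ π) (w ∘ e i) η := by
  classical
  cases nonempty_fintype ι
  have : ∀ i, Fintype (Pts (e i ≫ π) η) := fun i => Fintype.ofFinite _
  letI : Fintype (Pts π η) := Fintype.ofEquiv _ (Equiv.ofBijective _ hbij)
  simp only [geomSum, finsum_eq_sum_of_fintype]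
  rw [← (Equiv.ofBijective _ hbij).sum_comp, Fintype.sum_sigma]
  rfl

end Groth.Agent.H7Weight
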