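import Groth.Agent.H7Weight.GeomPts
import Groth.Agent.H8Props.EtalePrescribedResidue
import Mathlib.RingTheory.Etale.QuasiFinite
import Mathlib.AlgebraicGeometry.Morphisms.FlatMono
import Mathlib.AlgebraicGeometry.Morphisms.UniversallyOpen
import Mathlib.FieldTheory.PurelyInseparable.Basic
import Mathlib.Topology.LocallyConstant.Basic

/-!
# Étale localisation of locally quasi-finite morphisms

A chart of `f : X ⟶ Y` over an étale `g : V ⟶ Y` is a finite `U ⟶ V` with an étale map to `X`
embedding `U` as an open of `X ×_Y V`.  Finitely many lifts of a geometric point of `Y` can be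
separated by charts each having a single geometric point over the chosen one.
-/

set_option autoImplicit false
set_option backward.isDefEq.respectTransparency false
set_option linter.style.haveILetI false

universe u

open AlgebraicGeometry CategoryTheory Limits TensorProduct

namespace Groth.Agent.H7Weight

variable {Ω : Type u} [Field Ω] {X Y V V' : Scheme.{u}}

/-- An open piece of the pullback of `f` along `g` which is finite over the new base. -/
structure Chart (f : X ⟶ Y) (g : V ⟶ Y) where
  U : Scheme.{u}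
  a : U ⟶ X
  π : U ⟶ V
  finite : IsFinite π
  w : a ≫ f = π ≫ g
  isOpen : IsOpenImmersion (pullback.lift a π w)

namespace Chart

variable {f : X ⟶ Y} {g : V ⟶ Y} (C : Chart f g)

instance : IsFinite C.π := C.finite

noncomputable def lift : C.U ⟶ pullback f g := pullback.lift C.a C.π C.w

instance : IsOpenImmersion C.lift := C.isOpen

@[reassoc (attr := simp)]
theorem lift_fst : C.lift ≫ pullback.fst f g = C.a := pullback.lift_fst _ _ _

@[reassoc (attr := simp)]
theorem lift_snd : C.lift ≫ pullback.snd f g = C.π := pullback.lift_snd _ _ _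

instance [Etale g] : Etale C.a := C.lift_fst ▸ inferInstance

theorem mono {T : Scheme.{u}} (p q : T ⟶ C.U) (h1 : p ≫ C.a = q ≫ C.a) (h2 : p ≫ C.π = q ≫ C.π) :
    p = q := by
  rw [← cancel_mono C.lift]
  exact pullback.hom_ext (by simpa using h1) (by simpa using h2)

/-- A chart from an étale map jointly monomorphic with the finite projection. -/
noncomputable def mk' [Etale g] (U : Scheme.{u}) (a : U ⟶ X) (π : U ⟶ V) (finite : IsFinite π)
    (w : a ≫ f = π ≫ g) [Etale a]
    (mono : ∀ {T : Scheme.{u}} (p q : T ⟶ U), p ≫ a = q ≫ a → p ≫ π = q ≫ π → p = q) : Chart f g where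
  U := U
  a := a
  π := π
  finite := finite
  w := w
  isOpen := by
    have : Etale (pullback.lift a π w ≫ pullback.fst f g) := by rw [pullback.lift_fst]; infer_instance
    have : Etale (pullback.lift a π w) := Etale.of_comp _ (pullback.fst f g)
    have : Mono (pullback.lift a π w) := ⟨fun p q h => mono p q
      (by rw [← pullback.lift_fst a π w, ← Category.assoc, h, Category.assoc])
      (by rw [← pullback.lift_snd a π w, ← Category.assoc, h, Category.assoc])⟩
    exact IsOpenImmersion.of_flat_of_mono _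

/-- A finite open of the pullback as a chart. -/
noncomputable def ofOpen (U : (pullback f g).Opens) (hU : IsFinite (U.ι ≫ pullback.snd f g)) :
    Chart f g where
  U := U
  a := U.ι ≫ pullback.fst f g
  π := U.ι ≫ pullback.snd f g
  finite := hU
  w := by rw [Category.assoc, Category.assoc, pullback.condition]
  isOpen := by
    convert (inferInstance : IsOpenImmersion U.ι) using 1
    exact pullback.hom_ext (pullback.lift_fst _ _ _) (pullback.lift_snd _ _ _)

/-- Base change of a chart. -/
noncomputable def baseChange (h : V' ⟶ V) : Chart f (h ≫ g) where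
  U := pullback C.π h
  a := pullback.fst C.π h ≫ C.a
  π := pullback.snd C.π h
  finite := inferInstance
  w := by rw [Category.assoc, C.w, pullback.condition_assoc]
  isOpen := by
    let m : pullback f (h ≫ g) ⟶ pullback f g :=
      pullback.lift (pullback.fst _ _) (pullback.snd _ _ ≫ h) (by rw [pullback.condition, Category.assoc])
    have hR : IsPullback m (pullback.snd f (h ≫ g)) (pullback.snd f g) h := by
      refine IsPullback.of_right ?_ (pullback.lift_snd _ _ _) (IsPullback.of_hasPullback f g)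
      simpa [m] using IsPullback.of_hasPullback f (h ≫ g)
    have hL : IsPullback (pullback.fst C.π h) (pullback.lift (pullback.fst C.π h ≫ C.a) (pullback.snd C.π h)
        (by rw [Category.assoc, C.w, pullback.condition_assoc])) C.lift m := by
      refine IsPullback.of_bot ?_ ?_ hR
      · simpa using IsPullback.of_hasPullback C.π h
      · apply pullback.hom_ext <;> simp [m, pullback.condition]
    exact MorphismProperty.of_isPullback (P := @IsOpenImmersion) hL C.isOpen

theorem finite_pts [IsAlgClosed Ω] (η : Spec (CommRingCat.of Ω) ⟶ V) : Finite (Pts C.π η) :=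
  H7Weight.finite_pts C.π η (C.π.finite_preimage_singleton _)

/-- The lift of a geometric point of a chart to `X`. -/
noncomputable def ptsMap {η : Spec (CommRingCat.of Ω) ⟶ V} (q : Pts C.π η) : Pts f (η ≫ g) :=
  ⟨q.1 ≫ C.a, by rw [Category.assoc, C.w, ← Category.assoc, q.2]⟩

theorem ptsMap_injective (η : Spec (CommRingCat.of Ω) ⟶ V) :
    Function.Injective (C.ptsMap (η := η)) :=
  fun p q h => Subtype.ext (C.mono _ _ congr($(h).1) (p.2.trans q.2.symm))

end Chart

/-- A chart with exactly one geometric point over `η'`, lifting `s`. -/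
structure Single {f : X ⟶ Y} {η : Spec (CommRingCat.of Ω) ⟶ Y} (g : V ⟶ Y)
    (η' : Spec (CommRingCat.of Ω) ⟶ V) (s : Pts f η) where
  C : Chart f g
  p : Pts C.π η'
  p_a : p.1 ≫ C.a = s.1
  unique : ∀ q : Pts C.π η', q = p

/-- Base change of a single-point chart. -/
noncomputable def Single.baseChange {f : X ⟶ Y} {η : Spec (CommRingCat.of Ω) ⟶ Y} {g : V ⟶ Y}
    {η' : Spec (CommRingCat.of Ω) ⟶ V} {s : Pts f η} (D : Single g η' s) (h : V' ⟶ V)
    {η'' : Spec (CommRingCat.of Ω) ⟶ V'} (hη : η'' ≫ h = η') : Single (h ≫ g) η'' s where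
  C := D.C.baseChange h
  p := (ptsBaseChange (IsPullback.of_hasPullback D.C.π h) η'').symm ⟨D.p.1, D.p.2.trans hη.symm⟩
  p_a := by
    have e := congr($((ptsBaseChange (IsPullback.of_hasPullback D.C.π h) η'').apply_symm_apply
      ⟨D.p.1, D.p.2.trans hη.symm⟩).1)
    exact (Category.assoc _ _ _).symm.trans ((congrArg (· ≫ D.C.a) e).trans D.p_a)
  unique q := by
    refine ((ptsBaseChange (IsPullback.of_hasPullback D.C.π h) η'').eq_symm_apply).2 ?_
    obtain ⟨q', hq'⟩ := ptsBaseChange (IsPullback.of_hasPullback D.C.π h) η'' q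
    exact Subtype.ext congr($(D.unique ⟨q', hq'.trans hη⟩).1)

theorem geomSum_single {f : X ⟶ Y} {η : Spec (CommRingCat.of Ω) ⟶ Y} {g : V ⟶ Y}
    {η' : Spec (CommRingCat.of Ω) ⟶ V} {s : Pts f η} (D : Single g η' s) (w : X → ℤ) :
    geomSum D.C.π (w ∘ D.C.a) η' = w (pt s.1) := by
  rw [geomSum, finsum_eq_single _ D.p fun q hq => absurd (D.unique q) hq, Function.comp_apply, ← pt_comp,
    D.p_a]

/-- Étale localisation killing the separable part of a residue field extension. -/
theorem exists_radicial (f : X ⟶ Y) [LocallyQuasiFinite f] [LocallyOfFiniteType f]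
    (η : Spec (CommRingCat.of Ω) ⟶ Y) (s : Pts f η) :
    ∃ (V : Scheme.{u}) (g : V ⟶ Y) (_ : Etale g) (η' : Spec (CommRingCat.of Ω) ⟶ V) (_ : η' ≫ g = η)
      (s' : Pts (pullback.snd f g) η'), s'.1 ≫ pullback.fst f g = s.1 ∧
      ∀ q : Pts (pullback.snd f g) η', pt q.1 = pt s'.1 → q = s' := by
  obtain ⟨x, σ, hσ⟩ : ∃ (x : X) (σ : X.residueField x ⟶ CommRingCat.of Ω),
      Spec.map σ ≫ X.fromSpecResidueField x = s.1 :=
    ⟨pt s.1, exists_residue_hom s.1 rfl⟩
  letI : Algebra (Y.residueField (f x)) (X.residueField x) := (f.residueFieldMap x).hom.toAlgebra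
  have : Module.Finite (Y.residueField (f x)) (X.residueField x) := finite_residue f x
  let K := separableClosure (Y.residueField (f x)) (X.residueField x)
  obtain ⟨V, g, u, hu, hg, ⟨Φ⟩⟩ :=
    H8Props.EtalePrescribedResidue.exists_etale_nbhd Y (f x) K
  letI : Algebra (Y.residueField (f x)) (V.residueField u) :=
    ((Y.residueFieldCongr hu).inv ≫ g.residueFieldMap u).hom.toAlgebra
  let τu : V.residueField u ⟶ CommRingCat.of Ω :=
    CommRingCat.ofHom (σ.hom.comp ((algebraMap K (X.residueField x)).comp Φ.symm.toAlgHom.toRingHom))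
  have hτu : (Y.residueFieldCongr hu).inv ≫ g.residueFieldMap u ≫ τu = f.residueFieldMap x ≫ σ := by
    ext r
    show σ ((Φ.symm (algebraMap (Y.residueField (f x)) (V.residueField u) r) : K) : X.residueField x) = _
    rw [AlgEquiv.commutes]
    rfl
  let η' := Spec.map τu ≫ V.fromSpecResidueField u
  have hη' : η' ≫ g = η := by
    rw [specMap_comp_eq, ← s.2, ← hσ, specMap_comp_eq, ← hτu, Spec.map_comp ((Y.residueFieldCongr hu).inv),
      Category.assoc]
    congr 1
    rw [← Y.residueFieldCongr_fromSpecResidueField hu, ← Category.assoc, ← Spec.map_comp,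
      Iso.hom_inv_id, Spec.map_id, Category.id_comp]
  let s' : Pts (pullback.snd f g) η' :=
    ⟨pullback.lift s.1 η' (s.2.trans hη'.symm), pullback.lift_snd _ _ _⟩
  refine ⟨V, g, hg, η', hη', s', pullback.lift_fst _ _ _, fun q hq => ?_⟩
  suffices h : q.1 ≫ pullback.fst f g = s.1 from
    Subtype.ext (pullback.hom_ext (h.trans (pullback.lift_fst _ _ _).symm) (q.2.trans s'.2.symm))
  obtain ⟨τ, hτ⟩ := exists_residue_hom s'.1 rfl
  obtain ⟨τq, hτq⟩ := exists_residue_hom q.1 hq
  have hx1 : pullback.fst f g (pt s'.1) = x := by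
    rw [← pt_comp]
    show pt (pullback.lift s.1 η' _ ≫ pullback.fst f g) = x
    rw [pullback.lift_fst, ← hσ, pt_specMap]
  have hu1 : pullback.snd f g (pt s'.1) = u := by
    rw [← pt_comp, s'.2, pt_specMap]
  generalize pt s'.1 = x1 at τ hτ τq hτq hx1 hu1
  subst hx1 hu1
  rw [← hτq, ← hσ, specMap_comp_eq, cancel_mono, Spec.map_inj]
  let i := (pullback.fst f g).residueFieldMap x1
  let j := (pullback.snd f g).residueFieldMap x1
  have hi : i ≫ τ = σ := by
    apply Spec.map_injective
    rw [← cancel_mono (X.fromSpecResidueField _), ← specMap_comp_eq, hτ, hσ]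
    exact pullback.lift_fst _ _ _
  have hj : j ≫ τ = τu := by
    apply Spec.map_injective
    rw [← cancel_mono (V.fromSpecResidueField _), ← specMap_comp_eq, hτ]
    exact pullback.lift_snd _ _ _
  have hjq : j ≫ τq = τu := by
    apply Spec.map_injective
    rw [← cancel_mono (V.fromSpecResidueField _), ← specMap_comp_eq, hτq]
    exact q.2
  have key : ∀ e : K, (i ≫ τq) (e : X.residueField _) = σ (e : X.residueField _) := by
    intro e
    have hc : τu (Φ e) = σ (e : X.residueField _) := by
      show σ ((Φ.symm (Φ e) : K) : X.residueField _) = _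
      rw [Φ.symm_apply_apply]
    have : i (e : X.residueField _) = j (Φ e) := τ.hom.injective (by
      show (i ≫ τ) (e : X.residueField _) = (j ≫ τ) (Φ e)
      rw [hi, hj, hc])
    show τq (i (e : X.residueField _)) = _
    rw [this, ← hc, ← hjq]
    rfl
  apply CommRingCat.hom_ext
  exact IsPurelyInseparable.injective_comp_algebraMap K (X.residueField _) Ω (RingHom.ext key)

variable [IsAlgClosed Ω]

/-- A finite piece through a point with a single point in its fibre. -/
theorem exists_chart_at (f : X ⟶ Y) [LocallyQuasiFinite f] [LocallyOfFiniteType f] (x : X) :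
    ∃ (V : Scheme.{u}) (g : V ⟶ Y) (_ : Etale g) (C : Chart f g) (u : C.U), C.a u = x ∧
      ∀ u', C.π u' = C.π u → u' = u := by
  obtain ⟨_, ⟨U, (hU : IsAffineOpen U), rfl⟩, hxU, -⟩ :=
    Y.isBasis_affineOpens.exists_subset_of_mem_open (Set.mem_univ (f x)) isOpen_univ
  obtain ⟨_, ⟨O, (hO : IsAffineOpen O), rfl⟩, hxO, hOU : O ≤ f ⁻¹ᵁ U⟩ :=
    X.isBasis_affineOpens.exists_subset_of_mem_open hxU (f ⁻¹ᵁ U).2
  have : (f.appLE U O hOU).hom.FiniteType := f.finiteType_appLE hU hO hOU
  have hqf := (f.quasiFiniteAt x).quasiFiniteAt hO hU hOU hxO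
  algebraize [(f.appLE U O hOU).hom]
  let q := (hO.primeIdealOf ⟨x, hxO⟩).asIdeal
  have : Algebra.QuasiFiniteAt Γ(Y, U) q := hqf
  obtain ⟨R, _, _, _, P, _, _, e, _, P', _, _, hP', heP', -, _, huniq⟩ :=
    Algebra.exists_etale_isIdempotentElem_forall_liesOver_eq (q.under Γ(Y, U)) q
  let S := Γ(X, O)
  let c : Γ(Y, U) ⟶ CommRingCat.of R := CommRingCat.ofHom (algebraMap Γ(Y, U) R)
  have : Etale (Spec.map c) := HasRingHomProperty.Spec_iff.mpr (RingHom.etale_algebraMap.mpr ‹_›)
  let inR : CommRingCat.of R ⟶ CommRingCat.of (R ⊗[Γ(Y, U)] Γ(X, O)) :=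
    CommRingCat.ofHom Algebra.TensorProduct.includeLeftRingHom
  let inS : Γ(X, O) ⟶ CommRingCat.of (R ⊗[Γ(Y, U)] Γ(X, O)) :=
    CommRingCat.ofHom Algebra.TensorProduct.includeRight.toRingHom
  have hpb : IsPullback (Spec.map inR) (Spec.map inS) (Spec.map c) (Spec.map (f.appLE U O hOU)) :=
    isPullback_SpecMap_of_isPushout _ _ _ _ (CommRingCat.isPushout_tensorProduct Γ(Y, U) R Γ(X, O))
  have : Etale (Spec.map inS) := MorphismProperty.of_isPullback hpb inferInstance
  let l : CommRingCat.of (R ⊗[Γ(Y, U)] Γ(X, O)) ⟶ CommRingCat.of (Localization.Away e) :=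
    CommRingCat.ofHom (algebraMap _ _)
  have hl : IsOpenImmersion (Spec.map l) := .of_isLocalization e
  let D : Chart f (Spec.map c ≫ hU.fromSpec) :=
    Chart.mk' (Spec (CommRingCat.of (Localization.Away e)))
      (Spec.map l ≫ Spec.map inS ≫ hO.fromSpec)
      (Spec.map l ≫ Spec.map inR)
      (by
        rw [← Spec.map_comp, IsFinite.SpecMap_iff]
        exact RingHom.finite_algebraMap.mpr ‹Module.Finite R (Localization.Away e)›)
      (by
        simp only [Category.assoc]
        rw [reassoc_of% hpb.w, IsAffineOpen.SpecMap_appLE_fromSpec])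
      fun p q h1 h2 => by
        rw [← cancel_mono (Spec.map l)]
        refine hpb.hom_ext (by simpa using h2) ?_
        rw [← cancel_mono hO.fromSpec]
        simpa using h1
  obtain ⟨Q, hQ⟩ : ∃ Q : PrimeSpectrum (Localization.Away e), PrimeSpectrum.comap l.hom Q = ⟨P', ‹_›⟩ := by
    have : (⟨P', ‹_›⟩ : PrimeSpectrum (R ⊗[Γ(Y, U)] Γ(X, O))) ∈
        Set.range (PrimeSpectrum.comap (algebraMap (R ⊗[Γ(Y, U)] Γ(X, O)) (Localization.Away e))) := by
      rw [PrimeSpectrum.localization_away_comap_range (Localization.Away e) e]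
      exact heP'
    exact this
  refine ⟨_, _, inferInstance, D, Q, ?_, fun Q' hQ' => ?_⟩
  · show hO.fromSpec (PrimeSpectrum.comap inS.hom (PrimeSpectrum.comap l.hom Q)) = x
    rw [hQ]
    exact (congrArg hO.fromSpec (PrimeSpectrum.ext hP')).trans (hO.fromSpec_primeIdealOf ⟨x, hxO⟩)
  · apply (Spec.map l).isOpenEmbedding.injective
    show PrimeSpectrum.comap l.hom Q' = PrimeSpectrum.comap l.hom Q
    rw [hQ]
    have hu' : PrimeSpectrum.comap inR.hom (PrimeSpectrum.comap l.hom Q') =
        PrimeSpectrum.comap inR.hom (PrimeSpectrum.comap l.hom Q) := hQ'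
    rw [hQ] at hu'
    have he' : e ∉ (PrimeSpectrum.comap l.hom Q').asIdeal := by
      intro h
      exact Q'.2.ne_top (Ideal.eq_top_of_isUnit_mem _ h (IsLocalization.Away.algebraMap_isUnit e))
    refine PrimeSpectrum.ext (huniq _ (PrimeSpectrum.comap l.hom Q').2 ⟨?_⟩ he')
    exact (Ideal.LiesOver.over (P := P') (p := P)).trans congr($(hu').asIdeal).symm

/-- A single-point chart through a lift of a geometric point. -/
theorem exists_single (f : X ⟶ Y) [LocallyQuasiFinite f] [LocallyOfFiniteType f]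
    (η : Spec (CommRingCat.of Ω) ⟶ Y) (s : Pts f η) :
    ∃ (V : Scheme.{u}) (g : V ⟶ Y) (_ : Etale g) (η' : Spec (CommRingCat.of Ω) ⟶ V) (_ : η' ≫ g = η),
      Nonempty (Single g η' s) := by
  obtain ⟨V₁, g₁, _, η₁, hη₁, s₁, hs₁, huniq₁⟩ := exists_radicial f η s
  obtain ⟨V, g, _, C, u, hu, huniq⟩ := exists_chart_at (pullback.snd f g₁) (pt s₁.1)
  obtain ⟨p, hp⟩ := exists_pts C.a s₁.1 u hu
  let η' := p.1 ≫ C.π
  have hη' : η' ≫ g = η₁ := by
    rw [Category.assoc, ← C.w, ← Category.assoc, p.2, s₁.2]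
  let D : Chart f (g ≫ g₁) :=
    Chart.mk' C.U (C.a ≫ pullback.fst f g₁) C.π inferInstance
      (by rw [Category.assoc, pullback.condition, ← Category.assoc, C.w, Category.assoc])
      fun p q h1 h2 => C.mono p q (pullback.hom_ext (by simpa using h1) (by
        simp only [Category.assoc, C.w]
        rw [reassoc_of% h2])) h2
  refine ⟨V, g ≫ g₁, inferInstance, η', by rw [reassoc_of% hη', hη₁],
    ⟨{ C := D, p := ⟨p.1, rfl⟩, p_a := by show p.1 ≫ C.a ≫ _ = _; rw [reassoc_of% p.2, hs₁], unique := fun q => ?_ }⟩⟩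
  obtain ⟨q, (hq0 : q ≫ C.π = η')⟩ : Pts C.π η' := q
  have hq : pt q = u := huniq _ (by rw [← hp]; exact congr(pt $hq0))
  have := huniq₁ ⟨q ≫ C.a, by rw [Category.assoc, C.w, ← Category.assoc, hq0, hη']⟩ (by
    show C.a (pt q) = _; rw [hq, hu])
  refine Subtype.ext (C.mono _ _ ?_ hq0)
  exact congr($(this).1).trans p.2.symm

/-- Finitely many lifts of a geometric point are separated by charts over a common étale
neighbourhood. -/
theorem exists_singles (f : X ⟶ Y) [LocallyQuasiFinite f] [LocallyOfFiniteType f]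
    (η : Spec (CommRingCat.of Ω) ⟶ Y) (S : Finset (Pts f η)) :
    ∃ (V : Scheme.{u}) (g : V ⟶ Y) (_ : Etale g) (η' : Spec (CommRingCat.of Ω) ⟶ V) (_ : η' ≫ g = η),
      ∀ s ∈ S, Nonempty (Single g η' s) := by
  classical
  induction S using Finset.induction_on with
  | empty => exact ⟨Y, 𝟙 Y, inferInstance, η, Category.comp_id _, by simp⟩
  | @insert s S _ ih =>
    obtain ⟨V₁, g₁, _, η₁, hη₁, h₁⟩ := ih
    obtain ⟨V₂, g₂, _, η₂, hη₂, ⟨D⟩⟩ := exists_single f η s
    refine ⟨pullback g₁ g₂, pullback.fst g₁ g₂ ≫ g₁, inferInstance,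
      pullback.lift η₁ η₂ (hη₁.trans hη₂.symm), by rw [pullback.lift_fst_assoc, hη₁], fun t ht => ?_⟩
    rcases Finset.mem_insert.1 ht with rfl | ht
    · rw [pullback.condition]
      exact ⟨D.baseChange _ (pullback.lift_snd _ _ _)⟩
    · obtain ⟨E⟩ := h₁ t ht
      exact ⟨E.baseChange _ (pullback.lift_fst _ _ _)⟩

end Groth.Agent.H7Weight
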