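import Groth.Agent.H7Weight.Chart

/-!
# Weightings: criteria and étale-local decomposition of finite pieces
-/

set_option autoImplicit false
set_option backward.isDefEq.respectTransparency false
set_option linter.style.haveILetI false

universe u

open AlgebraicGeometry CategoryTheory Limits

namespace Groth.Agent.H7Weight

variable {Ω : Type u} [Field Ω] {X Y V : Scheme.{u}}

theorem exists_geomPt' (v : V) :
    ∃ (Ω : Type u) (_ : Field Ω) (_ : IsAlgClosed Ω) (η : Spec (CommRingCat.of Ω) ⟶ V), pt η = v :=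
  let ⟨η, hη⟩ := exists_geomPt v
  ⟨_, inferInstance, inferInstance, η, hη⟩

theorem fibreIntegral_baseChange {U U' V' : Scheme.{u}} {π : U ⟶ V} [LocallyQuasiFinite π]
    [LocallyOfFiniteType π] {π' : U' ⟶ V'} {h : U' ⟶ U} {g : V' ⟶ V} (hc : IsPullback h π' π g)
    (w : U → ℤ) (v' : V') (hfin : (π ⁻¹' {g v'}).Finite) :
    MoreMor.fibreIntegral π' (w ∘ h) v' = MoreMor.fibreIntegral π w (g v') := by
  have : LocallyQuasiFinite π' := MorphismProperty.of_isPullback hc inferInstance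
  have : LocallyOfFiniteType π' := MorphismProperty.of_isPullback hc inferInstance
  obtain ⟨Ω, _, _, η, rfl⟩ := exists_geomPt' v'
  have := finite_pts π (η ≫ g) hfin
  have : Finite (Pts π' η) := .of_equiv _ (ptsBaseChange hc η).symm
  rw [fibreIntegral_eq_of_finite_pts, ← pt_comp, fibreIntegral_eq_of_finite_pts, geomSum_baseChange hc]

theorem exists_nhds_preimage_subset {U : Scheme.{u}} (π : U ⟶ V) [IsFinite π] (O : Set U) (hO : IsOpen O)
    (v : V) (h : ∀ u, π u = v → u ∈ O) : ∃ V₀ : V.Opens, v ∈ V₀ ∧ ∀ u, π u ∈ V₀ → u ∈ O :=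
  ⟨⟨_, (π.isClosedMap _ hO.isClosed_compl).isOpen_compl⟩, fun ⟨u, hu, hu'⟩ => hu (h u hu'),
    fun u hu => not_not.1 fun hu' => hu ⟨u, hu', rfl⟩⟩

/-- `q`-points over `v` in the range of `b` are those in exactly one of the ranges of the `a i`. -/
def AgreeOver {P B : Scheme.{u}} (q : P ⟶ V) (b : B ⟶ P) {ι : Type*} {A : ι → Scheme.{u}}
    (a : ∀ i, A i ⟶ P) (v : V) : Prop :=
  ∀ z, q z = v → (z ∈ Set.range b ↔ ∃ i, z ∈ Set.range (a i)) ∧
    ∀ i j, z ∈ Set.range (a i) → z ∈ Set.range (a j) → i = j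

/-- Finite open pieces which agree on a fibre agree near it. -/
theorem exists_decomp {P B : Scheme.{u}} (q : P ⟶ V) (b : B ⟶ P) [IsOpenImmersion b] [IsFinite (b ≫ q)]
    {ι : Type*} [Finite ι] {A : ι → Scheme.{u}} (a : ∀ i, A i ⟶ P) [∀ i, IsOpenImmersion (a i)]
    [∀ i, IsFinite (a i ≫ q)] (v : V) (h : AgreeOver q b a v) :
    ∃ V₀ : V.Opens, v ∈ V₀ ∧ ∀ v' ∈ V₀, AgreeOver q b a v' := by
  have hA : ∀ i, IsOpen (Set.range (a i)) := fun i => (a i).isOpenEmbedding.isOpen_range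
  obtain ⟨V₁, hv₁, hV₁⟩ := exists_nhds_preimage_subset (b ≫ q) (b ⁻¹' ⋃ i, Set.range (a i))
    ((isOpen_iUnion hA).preimage b.continuous) v fun u hu =>
    Set.mem_iUnion.2 ((h (b u) hu).1.1 ⟨u, rfl⟩)
  choose V₂ hv₂ hV₂ using fun i => exists_nhds_preimage_subset (a i ≫ q) (a i ⁻¹' Set.range b)
    (b.isOpenEmbedding.isOpen_range.preimage (a i).continuous) v fun u hu =>
    (h (a i u) hu).1.2 ⟨i, u, rfl⟩
  have : (⋂ i, (V₂ i : Set V)) ∈ nhds v :=
    Filter.iInter_mem.2 fun i => (V₂ i).2.mem_nhds (hv₂ i)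
  obtain ⟨O, hOsub, hO, hvO⟩ := mem_nhds_iff.1 this
  let V₃ : V.Opens := V₁ ⊓ ⟨O, hO⟩
  have hV₃ : ∀ z, q z ∈ V₃ → (z ∈ Set.range b ↔ ∃ i, z ∈ Set.range (a i)) := by
    intro z hz
    refine ⟨fun ⟨u, hu⟩ => ?_, fun ⟨i, u, hu⟩ => ?_⟩
    · subst hu; exact Set.mem_iUnion.1 (hV₁ u hz.1)
    · subst hu; exact hV₂ i u (Set.mem_iInter.1 (hOsub hz.2) i)
  -- over `V₃` the pieces are closed in `B`
  let S : Set V := V₃
  let R : (b ≫ q) ⁻¹' S → S := S.restrictPreimage (b ≫ q)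
  let K : ι → Set ((b ≫ q) ⁻¹' S) := fun i => {u | b u.1 ∈ Set.range (a i)}
  have hK : ∀ i, IsClosed (K i) := by
    intro i
    have hsub : Set.range (((a i ≫ q) ⁻¹ᵁ V₃).ι ≫ a i) ⊆ Set.range b := by
      rintro _ ⟨u, rfl⟩
      exact (hV₃ (a i u.1) u.2).2 ⟨i, u.1, rfl⟩
    let k := IsOpenImmersion.lift b _ hsub
    have hk : k ≫ b = ((a i ≫ q) ⁻¹ᵁ V₃).ι ≫ a i := IsOpenImmersion.lift_fac _ _ _
    have hrange : Set.range k ⊆ Set.range ((b ≫ q) ⁻¹ᵁ V₃).ι := by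
      rintro _ ⟨u, rfl⟩
      rw [Scheme.Opens.range_ι]
      show q ((k ≫ b) u) ∈ V₃
      rw [hk]
      exact u.2
    let k₁ := IsOpenImmersion.lift ((b ≫ q) ⁻¹ᵁ V₃).ι k hrange
    have hk₁ : k₁ ≫ ((b ≫ q) ∣_ V₃) = (a i ≫ q) ∣_ V₃ := by
      rw [← cancel_mono V₃.ι]
      simp only [Category.assoc, morphismRestrict_ι, k₁, IsOpenImmersion.lift_fac_assoc]
      exact (Category.assoc _ _ _).symm.trans ((congrArg (· ≫ q) hk).trans (Category.assoc _ _ _))
    have : IsFinite (k₁ ≫ ((b ≫ q) ∣_ V₃)) := by rw [hk₁]; infer_instance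
    have : IsFinite k₁ := .of_comp _ ((b ≫ q) ∣_ V₃)
    have hrk : K i = Set.range k₁ := by
      ext ⟨u, hu⟩
      constructor
      · rintro ⟨w, hw⟩
        refine ⟨⟨w, show q (a i w) ∈ V₃ by rw [hw]; exact hu⟩, Subtype.ext (b.isOpenEmbedding.injective ?_)⟩
        show ((k₁ ≫ ((b ≫ q) ⁻¹ᵁ V₃).ι) ≫ b) _ = b u
        rw [IsOpenImmersion.lift_fac, hk]
        exact hw
      · rintro ⟨w, hw⟩
        refine ⟨((a i ≫ q) ⁻¹ᵁ V₃).ι w, ?_⟩
        show (((a i ≫ q) ⁻¹ᵁ V₃).ι ≫ a i) w = b u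
        rw [← hk, ← IsOpenImmersion.lift_fac ((b ≫ q) ⁻¹ᵁ V₃).ι k hrange]
        exact congrArg b (congrArg Subtype.val hw)
    rw [hrk]
    exact k₁.isClosedMap.isClosed_range
  let bad : Set ((b ≫ q) ⁻¹' S) := ⋃ i, ⋃ j, ⋃ (_ : i ≠ j), K i ∩ K j
  have hbad : IsClosed bad :=
    isClosed_iUnion_of_finite fun i => isClosed_iUnion_of_finite fun j =>
      isClosed_iUnion_of_finite fun _ => (hK i).inter (hK j)
  have hRb : IsClosed (R '' bad) := (b ≫ q).isClosedMap.restrictPreimage S bad hbad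
  have hopen : IsOpen (Subtype.val '' (R '' bad)ᶜ) :=
    V₃.2.isOpenMap_subtype_val _ hRb.isOpen_compl
  refine ⟨⟨_, hopen⟩, ⟨⟨v, hv₁, hvO⟩, ?_, rfl⟩, ?_⟩
  · rintro ⟨u, hu, huv⟩
    simp only [bad, Set.mem_iUnion] at hu
    obtain ⟨i, j, hij, h1, h2⟩ := hu
    exact hij ((h (b u.1) congr(Subtype.val $huv)).2 i j h1 h2)
  · rintro _ ⟨v', hv', rfl⟩ z hz
    refine ⟨hV₃ z (hz ▸ v'.2), fun i j h1 h2 => ?_⟩
    by_contra hij
    obtain ⟨u, rfl⟩ := (hV₃ z (hz ▸ v'.2)).2 ⟨i, h1⟩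
    refine hv' ⟨⟨u, show q (b u) ∈ V₃ from hz ▸ v'.2⟩, ?_, Subtype.ext hz⟩
    simp only [bad, Set.mem_iUnion]
    exact ⟨i, j, hij, h1, h2⟩

/-- Over a point where the pieces agree the geometric sums agree. -/
theorem geomSum_of_agreeOver [IsAlgClosed Ω] {P B : Scheme.{u}} (q : P ⟶ V) (b : B ⟶ P)
    [IsOpenImmersion b] [IsFinite (b ≫ q)] {ι : Type u} [Finite ι] {A : ι → Scheme.{u}}
    (a : ∀ i, A i ⟶ P) [∀ i, IsOpenImmersion (a i)] [∀ i, IsFinite (a i ≫ q)]
    (η : Spec (CommRingCat.of Ω) ⟶ V) (h : AgreeOver q b a (pt η)) (W : P → ℤ) :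
    geomSum (b ≫ q) (W ∘ b) η = ∑ᶠ i, geomSum (a i ≫ q) (W ∘ a i) η := by
  classical
  cases nonempty_fintype ι
  have : Finite (Pts (b ≫ q) η) := finite_pts _ η ((b ≫ q).finite_preimage_singleton _)
  have : ∀ i, Finite (Pts (a i ≫ q) η) := fun i => finite_pts _ η ((a i ≫ q).finite_preimage_singleton _)
  have hsub : ∀ (i : ι) (p : Pts (a i ≫ q) η), Set.range (p.1 ≫ a i) ⊆ Set.range b := by
    rintro i p _ ⟨x, rfl⟩
    rw [Subsingleton.elim x (IsLocalRing.closedPoint Ω)]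
    exact (h _ p.map_pt).1.2 ⟨i, pt p.1, rfl⟩
  let Φ : (Σ i, Pts (a i ≫ q) η) → Pts (b ≫ q) η := fun p =>
    ⟨IsOpenImmersion.lift b _ (hsub p.1 p.2), by
      rw [IsOpenImmersion.lift_fac_assoc, Category.assoc, p.2.2]⟩
  have hΦ : ∀ p, (Φ p).1 ≫ b = p.2.1 ≫ a p.1 := fun p => IsOpenImmersion.lift_fac _ _ _
  have hbij : Function.Bijective Φ := by
    constructor
    · rintro ⟨i, p⟩ ⟨j, p'⟩ e
      have e' : p.1 ≫ a i = p'.1 ≫ a j := by rw [← hΦ ⟨i, p⟩, ← hΦ ⟨j, p'⟩, e]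
      obtain rfl : i = j := (h _ p.map_pt).2 i j ⟨pt p.1, rfl⟩ ⟨pt p'.1, congr(pt $e').symm⟩
      rw [cancel_mono] at e'
      rw [Subtype.ext e']
    · intro p
      obtain ⟨i, u, hu⟩ := (h (b (pt p.1)) p.map_pt).1.1 ⟨pt p.1, rfl⟩
      have hsub' : Set.range (p.1 ≫ b) ⊆ Set.range (a i) := by
        rintro _ ⟨x, rfl⟩
        rw [Subsingleton.elim x (IsLocalRing.closedPoint Ω)]
        exact ⟨u, hu⟩
      refine ⟨⟨i, ⟨IsOpenImmersion.lift (a i) _ hsub', by
        rw [IsOpenImmersion.lift_fac_assoc, Category.assoc, p.2]⟩⟩, ?_⟩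
      apply Subtype.ext
      rw [← cancel_mono b, hΦ]
      exact IsOpenImmersion.lift_fac _ _ _
  cases nonempty_fintype (Pts (b ≫ q) η)
  have : ∀ i, Fintype (Pts (a i ≫ q) η) := fun i => Fintype.ofFinite _
  simp only [geomSum, finsum_eq_sum_of_fintype]
  rw [← (Equiv.ofBijective Φ hbij).sum_comp, Fintype.sum_sigma]
  refine Finset.sum_congr rfl fun i _ => Finset.sum_congr rfl fun p _ => ?_
  exact congrArg W congr(pt $(hΦ ⟨i, p⟩))

namespace Chart

variable {f : X ⟶ Y} {g : V ⟶ Y} (C : Chart f g)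

/-- Forgetting along an equality of the base maps. -/
noncomputable def congr {g' : V ⟶ Y} (e : g = g') : Chart f g' := e ▸ C

theorem geomSum_baseChange {V' : Scheme.{u}} (h : V' ⟶ V) (w : X → ℤ) (η : Spec (CommRingCat.of Ω) ⟶ V') :
    geomSum (C.baseChange h).π (w ∘ (C.baseChange h).a) η = geomSum C.π (w ∘ C.a) (η ≫ h) :=
  H7Weight.geomSum_baseChange (IsPullback.of_hasPullback C.π h) (w ∘ C.a) η

theorem fibreIntegral_eq [IsAlgClosed Ω] (w : C.U → ℤ) (η : Spec (CommRingCat.of Ω) ⟶ V) :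
    MoreMor.fibreIntegral C.π w (pt η) = geomSum C.π w η :=
  fibreIntegral_eq_geomSum _ _ _ (C.π.finite_preimage_singleton _)

theorem isLocallyConstant {w : X → ℤ} (hw : MoreMor.IsWeighting f w) [Etale g] :
    IsLocallyConstant (MoreMor.fibreIntegral C.π (w ∘ C.a)) := by
  let U := C.lift.opensRange
  let e : C.U ≅ U.toScheme := C.lift.isoOpensRange
  have he : e.hom ≫ U.ι = C.lift := C.lift.isoOpensRange_hom_ι
  have hfin : IsFinite (U.ι ≫ pullback.snd f g) := by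
    rw [← MorphismProperty.cancel_left_of_respectsIso @IsFinite e.hom, ← Category.assoc, he, C.lift_snd]
    exact C.finite
  have hc : IsPullback e.hom C.π (U.ι ≫ pullback.snd f g) (𝟙 V) :=
    IsPullback.of_horiz_isIso ⟨by rw [← Category.assoc, he, C.lift_snd, Category.comp_id]⟩
  have : C.π = C.π := rfl
  convert hw V g U hfin using 1
  funext v
  refine Eq.trans ?_ (fibreIntegral_baseChange hc _ v ((U.ι ≫ pullback.snd f g).finite_preimage_singleton _))
  congr 1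
  funext u
  show w (C.a u) = w (pullback.fst f g ((e.hom ≫ U.ι) u))
  rw [he, ← Scheme.Hom.comp_apply, C.lift_fst]

theorem exists_nhds_const [IsAlgClosed Ω] {w : X → ℤ} (hw : MoreMor.IsWeighting f w) [Etale g]
    (η : Spec (CommRingCat.of Ω) ⟶ V) :
    ∃ V₀ : V.Opens, pt η ∈ V₀ ∧ ∀ (Ω' : Type u) [Field Ω'] [IsAlgClosed Ω']
      (η' : Spec (CommRingCat.of Ω') ⟶ V), pt η' ∈ V₀ →
        geomSum C.π (w ∘ C.a) η' = geomSum C.π (w ∘ C.a) η := by
  obtain ⟨O, hO, hv, hconst⟩ := (IsLocallyConstant.iff_exists_open _).1 (C.isLocallyConstant hw) (pt η)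
  refine ⟨⟨O, hO⟩, hv, fun Ω' _ _ η' h => ?_⟩
  rw [← C.fibreIntegral_eq, ← C.fibreIntegral_eq]
  exact hconst _ h

end Chart

/-- Weightings are detected étale-locally on the bases of charts. -/
theorem isWeighting_of_forall (f : X ⟶ Y) (w : X → ℤ)
    (H : ∀ (V : Scheme.{u}) (g : V ⟶ Y) [Etale g] (C : Chart f g) (Ω : Type u) [Field Ω] [IsAlgClosed Ω]
      (η : Spec (CommRingCat.of Ω) ⟶ V),
      ∃ (V' : Scheme.{u}) (h : V' ⟶ V) (_ : Etale h) (η' : Spec (CommRingCat.of Ω) ⟶ V') (_ : η' ≫ h = η)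
        (V₀ : V'.Opens), pt η' ∈ V₀ ∧ ∀ (Ω' : Type u) [Field Ω'] [IsAlgClosed Ω']
          (η'' : Spec (CommRingCat.of Ω') ⟶ V'), pt η'' ∈ V₀ →
            geomSum C.π (w ∘ C.a) (η'' ≫ h) = geomSum C.π (w ∘ C.a) η) :
    MoreMor.IsWeighting f w := by
  intro V g _ U hU
  let C := Chart.ofOpen U hU
  show IsLocallyConstant (MoreMor.fibreIntegral C.π (w ∘ C.a))
  rw [IsLocallyConstant.iff_exists_open]
  intro v
  obtain ⟨Ω, _, _, η, rfl⟩ := exists_geomPt' v
  obtain ⟨V', h, _, η', hη', V₀, hmem, hconst⟩ := H V g C Ω η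
  refine ⟨_, h.isOpenMap _ V₀.2, ⟨pt η', hmem, congr(pt $hη')⟩, ?_⟩
  rintro _ ⟨v', hv', rfl⟩
  obtain ⟨Ω', _, _, η'', rfl⟩ := exists_geomPt' v'
  rw [← pt_comp, C.fibreIntegral_eq, C.fibreIntegral_eq]
  exact hconst Ω' η'' hv'

/-- Given charts with one geometric point at all points of a finite piece over a geometric point, the
sum over the piece splits near that point. -/
theorem singles_decomp [IsAlgClosed Ω] {f : X ⟶ Y} [LocallyQuasiFinite f] [LocallyOfFiniteType f]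
    {g : V ⟶ Y} (B : Chart f g)
    (η : Spec (CommRingCat.of Ω) ⟶ V) {V₁ : Scheme.{u}} (g₁ : V₁ ⟶ Y)
    (η₁ : Spec (CommRingCat.of Ω) ⟶ V₁) (hη₁ : η₁ ≫ g₁ = η ≫ g)
    (D : ∀ p : Pts B.π η, Single g₁ η₁ (B.ptsMap p)) :
    ∃ V₀ : (pullback g g₁).Opens, pt (pullback.lift η η₁ hη₁.symm) ∈ V₀ ∧
      ∀ (Ω' : Type u) [Field Ω'] [IsAlgClosed Ω'] (η'' : Spec (CommRingCat.of Ω') ⟶ pullback g g₁),
        pt η'' ∈ V₀ → ∀ w : X → ℤ, geomSum B.π (w ∘ B.a) (η'' ≫ pullback.fst g g₁) =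
          ∑ᶠ p, geomSum (D p).C.π (w ∘ (D p).C.a) (η'' ≫ pullback.snd g g₁) := by
  classical
  have := B.finite_pts η
  cases nonempty_fintype (Pts B.π η)
  let η' := pullback.lift η η₁ hη₁.symm
  let g' := pullback.fst g g₁ ≫ g
  let B' := B.baseChange (pullback.fst g g₁)
  let A : Pts B.π η → Chart f g' := fun p =>
    ((D p).C.baseChange (pullback.snd g g₁)).congr pullback.condition.symm
  have : ∀ p, IsFinite ((A p).lift ≫ pullback.snd f g') := fun p => by rw [Chart.lift_snd]; infer_instance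
  have : IsFinite (B'.lift ≫ pullback.snd f g') := by rw [Chart.lift_snd]; infer_instance
  have hAgree : AgreeOver (pullback.snd f g') B'.lift (fun p => (A p).lift) (pt η') := by
    intro z hz
    obtain ⟨t, rfl⟩ := exists_pts (pullback.snd f g') η' z hz
    have hA : ∀ p, pt t.1 ∈ Set.range (A p).lift ↔ t.1 ≫ pullback.fst f g' = (B.ptsMap p).1 := by
      intro p
      have key : ∀ {gg : pullback g g₁ ⟶ Y} (e : pullback.snd g g₁ ≫ g₁ = gg)
          (t : Pts (pullback.snd f gg) η'),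
          pt t.1 ∈ Set.range (((D p).C.baseChange (pullback.snd g g₁)).congr e).lift ↔
            t.1 ≫ pullback.fst f gg = (B.ptsMap p).1 := by
        intro gg e t
        subst e
        let E := (D p).baseChange (pullback.snd g g₁) (η'' := η') (pullback.lift_snd _ _ _)
        constructor
        · intro ht
          have hs : Set.range t.1 ⊆ Set.range E.C.lift := by
            rintro _ ⟨x, rfl⟩
            rw [Subsingleton.elim x (IsLocalRing.closedPoint Ω)]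
            exact ht
          have e1 := E.unique ⟨IsOpenImmersion.lift E.C.lift t.1 hs, by
            rw [← E.C.lift_snd, IsOpenImmersion.lift_fac_assoc, t.2]⟩
          rw [← E.p_a, ← e1, ← E.C.lift_fst]
          exact (IsOpenImmersion.lift_fac_assoc _ _ _ _).symm
        · intro ht
          have : E.p.1 ≫ E.C.lift = t.1 := by
            apply pullback.hom_ext
            · rw [Category.assoc, E.C.lift_fst, E.p_a, ht]
            · rw [Category.assoc, E.C.lift_snd, E.p.2, t.2]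
          rw [← this]
          exact ⟨pt E.p.1, rfl⟩
      exact key _ t
    refine ⟨⟨?_, ?_⟩, fun i j hi hj => ?_⟩
    · rintro hz'
      have hs : Set.range t.1 ⊆ Set.range B'.lift := by
        rintro _ ⟨x, rfl⟩
        rw [Subsingleton.elim x (IsLocalRing.closedPoint Ω)]
        exact hz'
      let p' : Pts B'.π η' := ⟨IsOpenImmersion.lift B'.lift t.1 hs, by
        rw [← B'.lift_snd, IsOpenImmersion.lift_fac_assoc, t.2]⟩
      let p : Pts B.π η := ⟨p'.1 ≫ pullback.fst _ _,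
        ((ptsBaseChange (IsPullback.of_hasPullback B.π (pullback.fst g g₁)) η' p').2).trans
          (pullback.lift_fst _ _ _)⟩
      have hp : p.1 = p'.1 ≫ pullback.fst _ _ := rfl
      refine ⟨p, (hA p).2 ?_⟩
      show _ = p.1 ≫ B.a
      rw [hp, Category.assoc, ← IsOpenImmersion.lift_fac B'.lift t.1 hs, Category.assoc, B'.lift_fst]
      rfl
    · rintro ⟨p, hp⟩
      rw [hA] at hp
      let p' : Pts B'.π η' := (ptsBaseChange (IsPullback.of_hasPullback B.π (pullback.fst g g₁)) η').symm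
        ⟨p.1, p.2.trans (pullback.lift_fst _ _ _).symm⟩
      have hp' : p'.1 ≫ B'.a = (B.ptsMap p).1 := by
        have e := congr($((ptsBaseChange (IsPullback.of_hasPullback B.π (pullback.fst g g₁)) η').apply_symm_apply
          ⟨p.1, p.2.trans (pullback.lift_fst _ _ _).symm⟩).1)
        exact (Category.assoc _ _ _).symm.trans (congrArg (· ≫ B.a) e)
      have : p'.1 ≫ B'.lift = t.1 := by
        apply pullback.hom_ext
        · rw [Category.assoc, B'.lift_fst, hp', hp]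
        · rw [Category.assoc, B'.lift_snd, p'.2, t.2]
      rw [← this]
      exact ⟨pt p'.1, rfl⟩
    · exact B.ptsMap_injective η (Subtype.ext (((hA i).1 hi).symm.trans ((hA j).1 hj)))
  obtain ⟨V₀, hv, hV₀⟩ := exists_decomp (pullback.snd f g') B'.lift (fun p => (A p).lift) (pt η') hAgree
  refine ⟨V₀, hv, fun Ω' _ _ η'' hη'' w => ?_⟩
  have := geomSum_of_agreeOver (pullback.snd f g') B'.lift (fun p => (A p).lift) η'' (hV₀ _ hη'')
    (w ∘ pullback.fst f g')
  have e1 : ∀ (C : Chart f g'), geomSum (C.lift ≫ pullback.snd f g') ((w ∘ pullback.fst f g') ∘ C.lift) η'' =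
      geomSum C.π (w ∘ C.a) η'' := by
    intro C
    simp only [Function.comp_def, ← Scheme.Hom.comp_apply, Chart.lift_snd, Chart.lift_fst]
  rw [e1, Chart.geomSum_baseChange] at this
  rw [this]
  refine finsum_congr fun p => ?_
  rw [e1, ← Chart.geomSum_baseChange]
  have : ∀ {gg : pullback g g₁ ⟶ Y} (e : pullback.snd g g₁ ≫ g₁ = gg),
      geomSum (((D p).C.baseChange (pullback.snd g g₁)).congr e).π
        (w ∘ (((D p).C.baseChange (pullback.snd g g₁)).congr e).a) η'' =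
      geomSum ((D p).C.baseChange (pullback.snd g g₁)).π
        (w ∘ ((D p).C.baseChange (pullback.snd g g₁)).a) η'' := by
    intro gg e; subst e; rfl
  exact this _

/-- A finite piece splits étale-locally into pieces with one geometric point. -/
theorem exists_singles_decomp [IsAlgClosed Ω] {f : X ⟶ Y} [LocallyQuasiFinite f] [LocallyOfFiniteType f]
    {g : V ⟶ Y} (B : Chart f g) (η : Spec (CommRingCat.of Ω) ⟶ V) :
    ∃ (V₁ : Scheme.{u}) (g₁ : V₁ ⟶ Y) (_ : Etale g₁) (η₁ : Spec (CommRingCat.of Ω) ⟶ V₁)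
      (hη₁ : η₁ ≫ g₁ = η ≫ g) (D : ∀ p : Pts B.π η, Single g₁ η₁ (B.ptsMap p))
      (V₀ : (pullback g g₁).Opens), pt (pullback.lift η η₁ hη₁.symm) ∈ V₀ ∧
        ∀ (Ω' : Type u) [Field Ω'] [IsAlgClosed Ω'] (η'' : Spec (CommRingCat.of Ω') ⟶ pullback g g₁),
          pt η'' ∈ V₀ → ∀ w : X → ℤ, geomSum B.π (w ∘ B.a) (η'' ≫ pullback.fst g g₁) =
            ∑ᶠ p, geomSum (D p).C.π (w ∘ (D p).C.a) (η'' ≫ pullback.snd g g₁) := by
  classical
  have := B.finite_pts η
  cases nonempty_fintype (Pts B.π η)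
  obtain ⟨V₁, g₁, _, η₁, hη₁, hD⟩ :=
    exists_singles f (η ≫ g) (Finset.univ.image (B.ptsMap (η := η)))
  let D : ∀ p : Pts B.π η, Single g₁ η₁ (B.ptsMap p) := fun p =>
    (hD _ (Finset.mem_image_of_mem _ (Finset.mem_univ p))).some
  obtain ⟨V₀, h⟩ := singles_decomp B η g₁ η₁ hη₁ D
  exact ⟨V₁, g₁, inferInstance, η₁, hη₁, D, V₀, h⟩

end Groth.Agent.H7Weight
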