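import Groth.Agent.H7Weight.Weighting
import Mathlib.AlgebraicGeometry.Morphisms.UniversallyOpen
import Mathlib.Topology.Semicontinuity.Defs

/-!
# Base change of weightings, positivity
-/

set_option autoImplicit false
set_option backward.isDefEq.respectTransparency false
set_option linter.style.haveILetI false

universe u

open AlgebraicGeometry CategoryTheory Limits

namespace Groth.Agent.H7Weight

variable {Ω : Type u} [Field Ω] {X Y V : Scheme.{u}}

/-- A chart of a base change is a chart of the original morphism. -/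
noncomputable def Chart.ofBaseChange {X' Y' : Scheme.{u}} {f : X ⟶ Y} {f' : X' ⟶ Y'} {h : X' ⟶ X}
    {g : Y' ⟶ Y} (hc : IsPullback h f' f g) {g₀ : V ⟶ Y'} (C : Chart f' g₀) : Chart f (g₀ ≫ g) where
  U := C.U
  a := C.a ≫ h
  π := C.π
  finite := C.finite
  w := by rw [Category.assoc, hc.w, ← Category.assoc, C.w, Category.assoc]
  isOpen := by
    have hp := (IsPullback.of_hasPullback f' g₀).flip.paste_vert hc.flip
    have key : pullback.lift (C.a ≫ h) C.π
        (by rw [Category.assoc, hc.w, ← Category.assoc, C.w, Category.assoc]) =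
        C.lift ≫ hp.flip.isoPullback.hom := by
      apply pullback.hom_ext <;> simp
    rw [key]
    infer_instance

theorem geomSum_single_le {U : Scheme.{u}} {π : U ⟶ V} {η : Spec (CommRingCat.of Ω) ⟶ V} [Finite (Pts π η)]
    (w : U → ℤ) (hw : ∀ u, 0 ≤ w u) (s : Pts π η) : w (pt s.1) ≤ geomSum π w η := by
  classical
  cases nonempty_fintype (Pts π η)
  rw [geomSum, finsum_eq_sum_of_fintype]
  exact Finset.single_le_sum (fun t _ => hw (pt t.1)) (Finset.mem_univ s)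

theorem le_fibreIntegral {U : Scheme.{u}} (π : U ⟶ V) [LocallyQuasiFinite π] [LocallyOfFiniteType π]
    (w : U → ℤ) (hw : ∀ u, 0 ≤ w u) (u : U) (hfin : (π ⁻¹' {π u}).Finite) :
    w u ≤ MoreMor.fibreIntegral π w (π u) := by
  obtain ⟨Ω, _, _, η, hη⟩ := exists_geomPt' (π u)
  obtain ⟨s, rfl⟩ := exists_pts π η u hη.symm
  have := finite_pts π η (hη ▸ hfin)
  rw [← hη, fibreIntegral_eq_of_finite_pts]
  exact geomSum_single_le w hw s

/-- Around every point there is a chart with constant integral equal to the value of the weighting. -/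
theorem exists_chart_const {f : X ⟶ Y} [LocallyQuasiFinite f] [LocallyOfFiniteType f] {w : X → ℤ}
    (hw : MoreMor.IsWeighting f w) (x : X) :
    ∃ (V : Scheme.{u}) (g : V ⟶ Y) (_ : Etale g) (C : Chart f g) (u : C.U) (V₀ : V.Opens),
      C.a u = x ∧ (∀ u', C.π u' = C.π u → u' = u) ∧ C.π u ∈ V₀ ∧
        ∀ v ∈ V₀, MoreMor.fibreIntegral C.π (w ∘ C.a) v = w x := by
  obtain ⟨Ω, _, _, η, hη⟩ := exists_geomPt' (f x)
  obtain ⟨s, rfl⟩ := exists_pts f η x hη.symm
  obtain ⟨V, g, _, η', _, ⟨D⟩⟩ := exists_single f η s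
  obtain ⟨V₀, hV₀, hconst⟩ := D.C.exists_nhds_const hw η'
  refine ⟨V, g, inferInstance, D.C, pt D.p.1, V₀, congr(pt $(D.p_a)), fun u' hu' => ?_,
    by rw [D.p.map_pt]; exact hV₀, fun v hv => ?_⟩
  · obtain ⟨q, rfl⟩ := exists_pts D.C.π η' u' (hu'.trans D.p.map_pt)
    rw [D.unique q]
  · obtain ⟨Ω', _, _, η'', rfl⟩ := exists_geomPt' v
    rw [Chart.fibreIntegral_eq, hconst Ω' η'' hv, geomSum_single]

theorem isWeighting_baseChange {X' Y' : Scheme.{u}} {f : X ⟶ Y} [LocallyQuasiFinite f]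
    [LocallyOfFiniteType f] {w : X → ℤ} (hw : MoreMor.IsWeighting f w) {f' : X' ⟶ Y'} {h : X' ⟶ X}
    {g : Y' ⟶ Y} (hc : IsPullback h f' f g) : MoreMor.IsWeighting f' (w ∘ h) := by
  refine isWeighting_of_forall f' _ fun V g₀ _ C Ω _ _ η => ?_
  let B := Chart.ofBaseChange hc C
  obtain ⟨V₁, g₁, _, η₁, hη₁, D, V₀, hV₀, hsum⟩ := exists_singles_decomp B η
  choose O hO hOconst using fun p => (D p).C.exists_nhds_const hw η₁
  have := B.finite_pts η
  let η' := pullback.lift η η₁ hη₁.symm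
  refine ⟨_, pullback.fst (g₀ ≫ g) g₁, inferInstance, η', pullback.lift_fst _ _ _,
    V₀ ⊓ ⟨⋂ p, (pullback.snd (g₀ ≫ g) g₁) ⁻¹' (O p : Set V₁),
      isOpen_iInter_of_finite fun p => (O p).2.preimage (pullback.snd (g₀ ≫ g) g₁).continuous⟩,
    ⟨hV₀, Set.mem_iInter.2 fun p => ?_⟩, fun Ω' _ _ η'' hη'' => ?_⟩
  · show pullback.snd (g₀ ≫ g) g₁ (pt η') ∈ O p
    rw [← pt_comp, pullback.lift_snd]
    exact hO p
  · show geomSum B.π (w ∘ B.a) (η'' ≫ pullback.fst _ g₁) = geomSum B.π (w ∘ B.a) η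
    conv_rhs => rw [← pullback.lift_fst η η₁ hη₁.symm]
    rw [hsum Ω' η'' hη''.1, hsum Ω η' hV₀]
    refine finsum_congr fun p => ?_
    rw [hOconst p Ω' (η'' ≫ pullback.snd (g₀ ≫ g) g₁) (Set.mem_iInter.1 hη''.2 p),
      hOconst p Ω (η' ≫ pullback.snd (g₀ ≫ g) g₁) (by
      rw [pullback.lift_snd]; exact hO p)]

theorem isOpenMap_of_pos {f : X ⟶ Y} [LocallyQuasiFinite f] [LocallyOfFiniteType f] {w : X → ℤ}
    (hw : MoreMor.IsWeighting f w) (hpos : ∀ x, 0 < w x) : IsOpenMap f := by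
  intro O hO
  rw [isOpen_iff_forall_mem_open]
  rintro _ ⟨x, hx, rfl⟩
  obtain ⟨V, g, _, C, u, V₀, hu, huniq, hV₀, hconst⟩ := exists_chart_const hw x
  obtain ⟨V₂, hV₂, hV₂'⟩ := exists_nhds_preimage_subset C.π (C.a ⁻¹' O) (hO.preimage C.a.continuous)
    (C.π u) fun u' hu' => by rw [huniq u' hu']; show C.a u ∈ O; rw [hu]; exact hx
  refine ⟨g '' ((V₀ ⊓ V₂ : V.Opens) : Set V), ?_, g.isOpenMap _ (V₀ ⊓ V₂).2, ⟨C.π u, ⟨hV₀, hV₂⟩, ?_⟩⟩
  · rintro _ ⟨v, ⟨hv, hv'⟩, rfl⟩
    obtain ⟨u', rfl⟩ : ∃ u', C.π u' = v := by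
      by_contra hne
      have := hconst v hv
      rw [MoreMor.fibreIntegral,
        finsum_eq_zero_of_forall_eq_zero fun u' => absurd ⟨u'.1, u'.2⟩ hne] at this
      exact absurd (hpos x) (by rw [← this]; exact lt_irrefl 0)
    exact ⟨C.a u', hV₂' u' hv', congr($(C.w) u')⟩
  · rw [← hu]
    exact congr($(C.w) u).symm

theorem universallyOpen_of_pos {f : X ⟶ Y} [LocallyQuasiFinite f] [LocallyOfFiniteType f] {w : X → ℤ}
    (hw : MoreMor.IsWeighting f w) (hpos : ∀ x, 0 < w x) : UniversallyOpen f := by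
  constructor
  intro X' Y' i₁ i₂ f' hc
  have : LocallyQuasiFinite f' := MorphismProperty.of_isPullback hc.flip inferInstance
  have : LocallyOfFiniteType f' := MorphismProperty.of_isPullback hc.flip inferInstance
  exact isOpenMap_of_pos (isWeighting_baseChange hw hc.flip) fun x => hpos _

theorem upperSemicontinuous_of_pos {f : X ⟶ Y} [LocallyQuasiFinite f] [LocallyOfFiniteType f] {w : X → ℤ}
    (hw : MoreMor.IsWeighting f w) (hpos : ∀ x, 0 < w x) : UpperSemicontinuous w := by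
  intro x c hc
  obtain ⟨V, g, _, C, u, V₀, hu, -, hV₀, hconst⟩ := exists_chart_const hw x
  have hopen : IsOpen (C.a '' (C.π ⁻¹' (V₀ : Set V))) :=
    C.a.isOpenMap _ (V₀.2.preimage C.π.continuous)
  filter_upwards [hopen.mem_nhds ⟨u, hV₀, hu⟩] with x' hx'
  obtain ⟨u', hu', rfl⟩ := hx'
  refine lt_of_le_of_lt ?_ hc
  rw [← hconst _ hu']
  exact le_fibreIntegral C.π (w ∘ C.a) (fun _ => (hpos _).le) u' (C.π.finite_preimage_singleton _)

end Groth.Agent.H7Weight
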