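import Groth.Agent.H7Weight.Basic

/-!
# Composition of weightings
-/

set_option autoImplicit false
set_option backward.isDefEq.respectTransparency false
set_option linter.style.haveILetI false

universe u

open AlgebraicGeometry CategoryTheory Limits

namespace Groth.Agent.H7Weight

variable {Ω : Type u} [Field Ω] [IsAlgClosed Ω] {X Y Z V W : Scheme.{u}}

theorem Chart.pts_at_unique {f : X ⟶ Y} {η : Spec (CommRingCat.of Ω) ⟶ Y} {g : V ⟶ Y}
    {η' : Spec (CommRingCat.of Ω) ⟶ V} {s : Pts f η} (D : Single g η' s) (u : D.C.U)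
    (hu : D.C.π u = pt η') : u = pt D.p.1 := by
  obtain ⟨q, rfl⟩ := exists_pts D.C.π η' u hu
  rw [D.unique q]

/-- Near the marked point the sums over a single-point chart of a composite factor. -/
theorem exists_nhds_comp_single {f : X ⟶ Y} {g : Y ⟶ Z} {wf : X → ℤ} {wg : Y → ℤ}
    (hf : MoreMor.IsWeighting f wf) (hg : MoreMor.IsWeighting g wg)
    {k : W ⟶ Z} [Etale k] {η₀ : Spec (CommRingCat.of Ω) ⟶ Z} {η : Spec (CommRingCat.of Ω) ⟶ W}
    {s : Pts (f ≫ g) η₀} {t : Pts g η₀} (hst : s.1 ≫ f = t.1) (D : Single k η s) (E : Single k η t) :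
    ∃ (c : ℤ) (W₀ : W.Opens), pt η ∈ W₀ ∧ ∀ (Ω' : Type u) [Field Ω'] [IsAlgClosed Ω']
      (η' : Spec (CommRingCat.of Ω') ⟶ W), pt η' ∈ W₀ →
        geomSum D.C.π ((fun x => wf x * wg (f x)) ∘ D.C.a) η' = c := by
  let φ : D.C.U ⟶ pullback g k :=
    pullback.lift (D.C.a ≫ f) D.C.π ((Category.assoc _ _ _).trans D.C.w)
  have hφp : D.p.1 ≫ φ = E.p.1 ≫ E.C.lift := by
    apply pullback.hom_ext
    · rw [Category.assoc, Category.assoc, pullback.lift_fst, Chart.lift_fst, E.p_a, reassoc_of% D.p_a, hst]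
    · rw [Category.assoc, Category.assoc, pullback.lift_snd, Chart.lift_snd, D.p.2, E.p.2]
  obtain ⟨W₁, hW₁, hsub⟩ := exists_nhds_preimage_subset D.C.π (φ ⁻¹' Set.range E.C.lift)
    (E.C.lift.isOpenEmbedding.isOpen_range.preimage φ.continuous) (pt η) fun u hu => by
    rw [Chart.pts_at_unique D u hu]
    exact ⟨pt E.p.1, congr(pt $hφp).symm⟩
  let ι := W₁.ι
  obtain ⟨η₁, hη₁⟩ : ∃ η₁ : Spec (CommRingCat.of Ω) ⟶ W₁, η₁ ≫ ι = η := by
    refine ⟨IsOpenImmersion.lift ι η ?_, IsOpenImmersion.lift_fac _ _ _⟩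
    rintro _ ⟨x, rfl⟩
    rw [Subsingleton.elim x (IsLocalRing.closedPoint Ω), Scheme.Opens.range_ι]
    exact hW₁
  let D' := D.baseChange ι hη₁
  let E' := E.baseChange ι hη₁
  -- the map between the pieces
  let φ' : D'.C.U ⟶ pullback g (ι ≫ k) :=
    pullback.lift (D'.C.a ≫ f) D'.C.π ((Category.assoc _ _ _).trans D'.C.w)
  have hrange : Set.range φ' ⊆ Set.range E'.C.lift := by
    rintro _ ⟨u, rfl⟩
    obtain ⟨Ω', _, _, η', hη'⟩ := exists_geomPt' (D'.C.π u)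
    obtain ⟨q, rfl⟩ := exists_pts D'.C.π η' u hη'.symm
    have hq : pt (q.1 ≫ pullback.fst D.C.π ι) ∈ φ ⁻¹' Set.range E.C.lift := by
      apply hsub
      show pt ((q.1 ≫ pullback.fst D.C.π ι) ≫ D.C.π) ∈ W₁
      rw [Category.assoc, pullback.condition]
      exact (pullback.snd D.C.π ι (pt q.1)).2
    have hs : Set.range ((q.1 ≫ pullback.fst D.C.π ι) ≫ φ) ⊆ Set.range E.C.lift := by
      rintro _ ⟨x, rfl⟩
      rw [Subsingleton.elim x (IsLocalRing.closedPoint Ω')]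
      exact hq
    let e₀ := IsOpenImmersion.lift E.C.lift _ hs
    have he₀ : e₀ ≫ E.C.lift = (q.1 ≫ pullback.fst D.C.π ι) ≫ φ := IsOpenImmersion.lift_fac _ _ _
    have he₀π : e₀ ≫ E.C.π = η' ≫ ι := by
      rw [← E.C.lift_snd, reassoc_of% he₀, pullback.lift_snd, pullback.condition, ← Category.assoc]
      exact congrArg (· ≫ ι) q.2
    let e : Spec (CommRingCat.of Ω') ⟶ E'.C.U := pullback.lift e₀ η' he₀π
    have he : e ≫ E'.C.lift = q.1 ≫ φ' := by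
      apply pullback.hom_ext
      · rw [Category.assoc, Category.assoc, Chart.lift_fst, pullback.lift_fst]
        show e ≫ pullback.fst E.C.π ι ≫ E.C.a = q.1 ≫ (pullback.fst D.C.π ι ≫ D.C.a) ≫ f
        rw [pullback.lift_fst_assoc, ← E.C.lift_fst, reassoc_of% he₀, pullback.lift_fst]
        simp only [Category.assoc]
      · rw [Category.assoc, Category.assoc, Chart.lift_snd, pullback.lift_snd]
        exact (pullback.lift_snd _ _ _).trans q.2.symm
    exact ⟨pt e, congr(pt $he)⟩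
  let κ := IsOpenImmersion.lift E'.C.lift φ' hrange
  have hκ : κ ≫ E'.C.lift = φ' := IsOpenImmersion.lift_fac _ _ _
  have hκπ : κ ≫ E'.C.π = D'.C.π := by rw [← E'.C.lift_snd, reassoc_of% hκ, pullback.lift_snd]
  have hκa : κ ≫ E'.C.a = D'.C.a ≫ f := by rw [← E'.C.lift_fst, reassoc_of% hκ, pullback.lift_fst]
  have : IsFinite (κ ≫ E'.C.π) := by rw [hκπ]; infer_instance
  have : IsFinite κ := .of_comp κ E'.C.π
  let C : Chart f E'.C.a := Chart.mk' D'.C.U D'.C.a κ inferInstance hκa.symm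
    fun p q h1 h2 => D'.C.mono p q h1 (by rw [← hκπ, reassoc_of% h2])
  obtain ⟨O, hO, hOconst⟩ := C.exists_nhds_const hf E'.p.1
  obtain ⟨W₂, hW₂, hW₂'⟩ := exists_nhds_preimage_subset E'.C.π (O : Set E'.C.U) O.2 (pt η₁) fun u hu => by
    rw [Chart.pts_at_unique E' u hu]
    exact hO
  obtain ⟨W₃, hW₃, hW₃'⟩ := E'.C.exists_nhds_const hg η₁
  refine ⟨geomSum κ (wf ∘ D'.C.a) E'.p.1 * geomSum E'.C.π (wg ∘ E'.C.a) η₁, ι ''ᵁ (W₂ ⊓ W₃),
    ⟨pt η₁, ⟨hW₂, hW₃⟩, congr(pt $hη₁)⟩, ?_⟩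
  rintro Ω' _ _ η' ⟨v, hv, hv'⟩
  have hr : Set.range η' ⊆ Set.range ι := by
    rintro _ ⟨x, rfl⟩
    rw [Subsingleton.elim x (IsLocalRing.closedPoint Ω')]
    exact ⟨v, hv'⟩
  let ζ := IsOpenImmersion.lift ι η' hr
  have hζ : ζ ≫ ι = η' := IsOpenImmersion.lift_fac _ _ _
  have hζv : pt ζ = v := ι.isOpenEmbedding.injective ((congr(pt $hζ)).trans hv'.symm)
  rw [← hζ, ← Chart.geomSum_baseChange]
  show geomSum D'.C.π _ ζ = _
  have e1 : ((fun x => wf x * wg (f x)) ∘ D'.C.a) =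
      fun u => (wf ∘ D'.C.a) u * (wg ∘ E'.C.a) (κ u) := by
    funext u
    show wf (D'.C.a u) * wg (f (D'.C.a u)) = wf (D'.C.a u) * wg (E'.C.a (κ u))
    rw [← Scheme.Hom.comp_apply, ← hκa, Scheme.Hom.comp_apply]
  have := E'.C.finite_pts ζ
  show geomSum D'.C.π ((fun x => wf x * wg (f x)) ∘ D'.C.a) ζ = _
  rw [e1, ← hκπ, geomSum_comp κ E'.C.π ζ _ _ fun q => finite_pts κ q.1 (κ.finite_preimage_singleton _)]
  have e2 : ∀ q : Pts E'.C.π ζ, geomSum κ (wf ∘ D'.C.a) q.1 = geomSum κ (wf ∘ D'.C.a) E'.p.1 := fun q =>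
    hOconst Ω' q.1 (hW₂' _ (by rw [q.map_pt, hζv]; exact hv.1))
  simp only [e2]
  rw [← hW₃' Ω' ζ (by rw [hζv]; exact hv.2)]
  exact (mul_finsum (fun q : Pts E'.C.π ζ => (wg ∘ E'.C.a) (pt q.1)) _).symm

theorem isWeighting_comp {f : X ⟶ Y} {g : Y ⟶ Z} [LocallyQuasiFinite f] [LocallyOfFiniteType f]
    [LocallyQuasiFinite g] [LocallyOfFiniteType g] {wf : X → ℤ} {wg : Y → ℤ}
    (hf : MoreMor.IsWeighting f wf) (hg : MoreMor.IsWeighting g wg) :
    MoreMor.IsWeighting (f ≫ g) (fun x => wf x * wg (f x)) := by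
  classical
  refine isWeighting_of_forall (f ≫ g) _ fun V h₀ _ B Ω _ _ η => ?_
  obtain ⟨V₁, g₁, _, η₁, hη₁, D, V₀, hV₀, hsum⟩ := exists_singles_decomp B η
  have := B.finite_pts η
  cases nonempty_fintype (Pts B.π η)
  let t : Pts B.π η → Pts g (η ≫ h₀) := fun p =>
    ⟨(B.ptsMap p).1 ≫ f, by rw [Category.assoc]; exact (B.ptsMap p).2⟩
  obtain ⟨V₂, g₂, _, η₂, hη₂, hE⟩ := exists_singles g (η ≫ h₀) (Finset.univ.image t)
  let W₁ := pullback h₀ g₁
  let η' := pullback.lift η η₁ hη₁.symm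
  let c₁ : W₁ ⟶ Z := pullback.fst h₀ g₁ ≫ h₀
  let η'' := pullback.lift η' η₂ (show η' ≫ c₁ = η₂ ≫ g₂ by rw [pullback.lift_fst_assoc, hη₂])
  let k : pullback c₁ g₂ ⟶ Z := (pullback.fst c₁ g₂ ≫ pullback.snd h₀ g₁) ≫ g₁
  have hk : pullback.snd c₁ g₂ ≫ g₂ = k := by
    rw [← pullback.condition]
    simp only [c₁, k, Category.assoc, pullback.condition]
  have key : ∀ {gg : pullback c₁ g₂ ⟶ Z}, pullback.snd c₁ g₂ ≫ g₂ = gg → ∀ p, Nonempty (Single gg η'' (t p)) := by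
    intro gg e p
    subst e
    exact ⟨(hE _ (Finset.mem_image_of_mem _ (Finset.mem_univ p))).some.baseChange _ (pullback.lift_snd _ _ _)⟩
  have : Etale k := inferInstanceAs (Etale ((_ ≫ _) ≫ _))
  have he'' : η'' ≫ (pullback.fst c₁ g₂ ≫ pullback.snd h₀ g₁) = η₁ := by
    rw [pullback.lift_fst_assoc, pullback.lift_snd]
  choose c O hO hOc using fun p => exists_nhds_comp_single hf hg (k := k) (t := t p) rfl
    ((D p).baseChange (pullback.fst c₁ g₂ ≫ pullback.snd h₀ g₁) he'') (key hk p).some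
  let m := pullback.fst c₁ g₂
  refine ⟨_, m ≫ pullback.fst h₀ g₁, inferInstance, η'', ?_,
    ⟨m ⁻¹' (V₀ : Set W₁) ∩ ⋂ p, (O p : Set ↥(pullback c₁ g₂)),
      (V₀.2.preimage m.continuous).inter (isOpen_iInter_of_finite fun p => (O p).2)⟩, ?_, ?_⟩
  · rw [pullback.lift_fst_assoc, pullback.lift_fst]
  · refine ⟨?_, Set.mem_iInter.2 hO⟩
    show m (pt η'') ∈ V₀
    rw [← pt_comp, pullback.lift_fst]
    exact hV₀
  · rintro Ω' _ _ ζ ⟨hζ₁, hζ₂⟩
    show geomSum B.π ((fun x => wf x * wg (f x)) ∘ B.a) (ζ ≫ m ≫ pullback.fst h₀ g₁) = _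
    have heq : (η'' ≫ m) ≫ pullback.fst h₀ g₁ = η := by
      rw [Category.assoc, pullback.lift_fst_assoc, pullback.lift_fst]
    have h2 := hsum Ω (η'' ≫ m) (by rw [pullback.lift_fst]; exact hV₀) (fun x => wf x * wg (f x))
    rw [heq] at h2
    rw [h2, ← Category.assoc, hsum Ω' (ζ ≫ m) hζ₁]
    refine finsum_congr fun p => ?_
    rw [Category.assoc, Category.assoc, ← Chart.geomSum_baseChange, ← Chart.geomSum_baseChange]
    exact (hOc p Ω' ζ (Set.mem_iInter.1 hζ₂ p)).trans (hOc p Ω η'' (hO p)).symm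

end Groth.Agent.H7Weight
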