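import Groth.Agent.H7Weight.LocalMult
import Groth.Agent.H7Weight.GeomPts
import Mathlib

/-!
# The weighting of a flat, locally quasi-finite, locally finitely presented morphism
-/

set_option autoImplicit false
set_option backward.isDefEq.respectTransparency false
set_option linter.style.haveILetI false

universe u

open AlgebraicGeometry CategoryTheory Limits
open scoped TensorProduct

namespace Groth.Agent.H7Weight.FlatLQF

open LocalMult

variable {U V X Y : Scheme.{u}}

/-- length times inseparable degree -/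
noncomputable def LW (f : X ⟶ Y) (x : X) : ℕ := mult (f.stalkMap x).hom

/-- length times degree -/
noncomputable def dg (f : X ⟶ Y) (x : X) : ℕ := len (f.stalkMap x).hom * rdeg (f.stalkMap x).hom

theorem unram_stalk (a : U ⟶ X) [Etale a] (u : U) :
    (a.stalkMap u).hom.FormallyUnramified ∧ (a.stalkMap u).hom.EssFiniteType ∧ (a.stalkMap u).hom.Flat :=
  ⟨FormallyUnramified.stalkMap a u, LocallyOfFiniteType.stalkMap a u, Flat.stalkMap a u⟩

theorem isAlgebraic_residue (f : X ⟶ Y) [LocallyQuasiFinite f] [LocallyOfFiniteType f] (x : X) :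
    letI := (IsLocalRing.ResidueField.map (f.stalkMap x).hom).toAlgebra
    Algebra.IsAlgebraic (IsLocalRing.ResidueField (Y.presheaf.stalk (f x)))
      (IsLocalRing.ResidueField (X.presheaf.stalk x)) := by
  letI := (IsLocalRing.ResidueField.map (f.stalkMap x).hom).toAlgebra
  haveI : Module.Finite (IsLocalRing.ResidueField (Y.presheaf.stalk (f x)))
      (IsLocalRing.ResidueField (X.presheaf.stalk x)) := finite_residue f x
  exact Algebra.IsAlgebraic.of_finite _ _

/-- Precomposition with an étale morphism. -/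
theorem LW_comp_left (a : U ⟶ X) [Etale a] (f : X ⟶ Y) [LocallyQuasiFinite f] [LocallyOfFiniteType f]
    (u : U) : LW (a ≫ f) u = LW f (a u) := by
  obtain ⟨h1, h2, h3⟩ := unram_stalk a u
  unfold LW
  simp only [Scheme.Hom.stalkMap_comp]
  change mult ((a.stalkMap u).hom.comp (f.stalkMap (a u)).hom) = _
  exact mult_comp_left _ _ h3 h1 h2 (isAlgebraic_residue f (a u))

/-- Composition with an étale morphism of the base. -/
theorem LW_comp_right (π : U ⟶ V) (g : V ⟶ Y) [Etale g] (u : U) : LW (π ≫ g) u = LW π u := by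
  obtain ⟨h1, h2, -⟩ := unram_stalk g (π u)
  unfold LW
  simp only [Scheme.Hom.stalkMap_comp]
  change mult ((π.stalkMap u).hom.comp (g.stalkMap (π u)).hom) = _
  exact mult_comp_right _ _ h1 h2

theorem surjective_stalk (a : U ⟶ X) [IsOpenImmersion a] (u : U) :
    Function.Surjective (a.stalkMap u).hom :=
  ((ConcreteCategory.isIso_iff_bijective (a.stalkMap u)).1 inferInstance).2

theorem dg_comp_left (a : U ⟶ X) [IsOpenImmersion a] (f : X ⟶ Y) (u : U) : dg (a ≫ f) u = dg f (a u) := by
  obtain ⟨h1, h2, h3⟩ := unram_stalk a u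
  unfold dg
  simp only [Scheme.Hom.stalkMap_comp]
  change len ((a.stalkMap u).hom.comp (f.stalkMap (a u)).hom) * rdeg ((a.stalkMap u).hom.comp (f.stalkMap (a u)).hom) = _
  rw [len_comp_left _ _ h3 (map_maximalIdeal_of_unramified _ h1 h2), rdeg_comp,
    rdeg_eq_one_of_surjective _ (surjective_stalk a u), mul_one]

theorem dg_comp_right (π : U ⟶ V) (g : V ⟶ Y) [IsOpenImmersion g] (u : U) : dg (π ≫ g) u = dg π u := by
  obtain ⟨h1, h2, -⟩ := unram_stalk g (π u)
  unfold dg
  simp only [Scheme.Hom.stalkMap_comp]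
  change len ((π.stalkMap u).hom.comp (g.stalkMap (π u)).hom) * rdeg ((π.stalkMap u).hom.comp (g.stalkMap (π u)).hom) = _
  rw [len_comp_right _ _ (map_maximalIdeal_of_unramified _ h1 h2), rdeg_comp,
    rdeg_eq_one_of_surjective _ (surjective_stalk g (π u)), one_mul]

theorem conj_eq {A A' B B' : Type u} [CommRing A] [CommRing A'] [CommRing B] [CommRing B'] [IsLocalRing A]
    [IsLocalRing A'] [IsLocalRing B] [IsLocalRing B'] (ψ : A' →+* B') [IsLocalHom ψ] (eR : A ≃+* A')
    (eS : B' ≃+* B) (h : A →+* B) [IsLocalHom h] (e : h = eS.toRingHom.comp (ψ.comp eR.toRingHom)) :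
    len h = len ψ ∧ rdeg h = rdeg ψ := by
  haveI : IsLocalHom eR.toRingHom := ⟨fun a ha => by
    have := ha.map eR.symm.toRingHom; simpa using this⟩
  haveI : IsLocalHom eS.toRingHom := ⟨fun a ha => by
    have := ha.map eS.symm.toRingHom; simpa using this⟩
  have hu : ∀ {A B : Type u} [CommRing A] [CommRing B] (h : A →+* B), Function.Surjective h →
      h.FormallyUnramified ∧ h.EssFiniteType := by
    intro A B _ _ h hs
    algebraize [h]
    haveI : Algebra.FiniteType A B := Algebra.FiniteType.of_surjective (Algebra.ofId A B) hs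
    exact ⟨Algebra.FormallyUnramified.of_surjective (Algebra.ofId A B) hs,
      (inferInstance : Algebra.EssFiniteType A B)⟩
  obtain ⟨u1, u2⟩ := hu eS.toRingHom eS.surjective
  obtain ⟨v1, v2⟩ := hu eR.toRingHom eR.surjective
  subst e
  refine ⟨?_, ?_⟩
  · rw [len_comp_left _ _ (RingHom.Flat.of_bijective eS.bijective) (map_maximalIdeal_of_unramified _ u1 u2),
      len_comp_right _ _ (map_maximalIdeal_of_unramified _ v1 v2)]
  · rw [rdeg_comp, rdeg_comp, rdeg_eq_one_of_surjective eR.toRingHom eR.surjective,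
      rdeg_eq_one_of_surjective eS.toRingHom eS.surjective, mul_one, one_mul]

/-- The stalk maps of an affine morphism. -/
theorem dg_Spec {R S : CommRingCat.{u}} (φ : R ⟶ S) (q : PrimeSpectrum S) :
    len ((Spec.map φ).stalkMap q).hom = (letI := φ.hom.toAlgebra; q.asIdeal.ramificationIdx R) ∧
    rdeg ((Spec.map φ).stalkMap q).hom = (letI := φ.hom.toAlgebra; q.asIdeal.inertiaDeg R) := by
  rw [← len_localRingHom φ.hom (q.comap φ.hom).asIdeal q.asIdeal rfl,
    ← rdeg_localRingHom φ.hom (q.comap φ.hom).asIdeal q.asIdeal rfl]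
  haveI : IsLocalHom ((Spec.map φ).stalkMap q).hom := (Spec.map φ).toLRSHom.prop q
  exact conj_eq (Localization.localRingHom (q.comap φ.hom).asIdeal q.asIdeal φ.hom rfl)
    (Spec.stalkIso R (q.comap φ.hom)).commRingCatIsoToRingEquiv
    (Spec.stalkIso S q).symm.commRingCatIsoToRingEquiv _
    (congrArg CommRingCat.Hom.hom (Scheme.localRingHom_comp_stalkIso φ q).symm)

theorem LW_mul_sepDegree (π : U ⟶ V) (u : U) :
    (LW π u : ℤ) * (letI := (π.residueFieldMap u).hom.toAlgebra
      (Field.finSepDegree (V.residueField (π u)) (U.residueField u) : ℤ)) = (dg π u : ℤ) := by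
  have h : (letI := (π.residueFieldMap u).hom.toAlgebra
      Field.finSepDegree (V.residueField (π u)) (U.residueField u)) = sepd (π.stalkMap u).hom := rfl
  rw [show (dg π u : ℤ) = ((LW π u * sepd (π.stalkMap u).hom : ℕ) : ℤ) from by
    congr 1
    rw [LW, mult, dg, ← sepd_mul_insep]
    ring, Nat.cast_mul, ← h]

/-- The fibre integral along a finite flat morphism of finite presentation is locally constant. -/
theorem isLocallyConstant_fibreIntegral (π : U ⟶ V) [IsFinite π] [Flat π] [LocallyOfFinitePresentation π] :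
    IsLocallyConstant (MoreMor.fibreIntegral π (fun u => (LW π u : ℤ))) := by
  classical
  rw [IsLocallyConstant.iff_exists_open]
  intro v
  obtain ⟨W, hW, hvW, -⟩ := exists_isAffineOpen_mem_and_subset (x := v) (U := (⊤ : V.Opens)) trivial
  have hU : IsAffineOpen (π ⁻¹ᵁ W) := hW.preimage π
  let φ := π.appLE W (π ⁻¹ᵁ W) le_rfl
  have hsq : Spec.map φ ≫ hW.fromSpec = hU.fromSpec ≫ π := hW.SpecMap_appLE_fromSpec π hU le_rfl
  have hfin : φ.hom.Finite := by
    have h := IsFinite.finite_app π W hW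
    rwa [show φ = π.app W from (Scheme.Hom.app_eq_appLE (f := π)).symm]
  have hflat : φ.hom.Flat := HasRingHomProperty.appLE (P := @Flat) π inferInstance ⟨W, hW⟩ ⟨_, hU⟩ le_rfl
  have hfp : φ.hom.FinitePresentation :=
    HasRingHomProperty.appLE (P := @LocallyOfFinitePresentation) π inferInstance ⟨W, hW⟩ ⟨_, hU⟩ le_rfl
  algebraize [φ.hom]
  haveI : Module.FinitePresentation Γ(V, W) Γ(U, π ⁻¹ᵁ W) :=
    Module.FinitePresentation.of_finite_of_finitePresentation _ _
  let ρ : PrimeSpectrum Γ(V, W) → ℕ := Module.rankAtStalk Γ(U, π ⁻¹ᵁ W)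
  have hρ : IsLocallyConstant ρ := Module.isLocallyConstant_rankAtStalk
  have hπ : ∀ q, π (hU.fromSpec q) = hW.fromSpec (PrimeSpectrum.comap φ.hom q) := fun q => by
    rw [← Scheme.Hom.comp_apply, ← hsq]
    rfl
  have key : ∀ p, MoreMor.fibreIntegral π (fun u => (LW π u : ℤ)) (hW.fromSpec p) = (ρ p : ℤ) := by
    intro p
    let P := p.asIdeal.primesOver Γ(U, π ⁻¹ᵁ W)
    let pt : P → PrimeSpectrum Γ(U, π ⁻¹ᵁ W) := fun q => ⟨q.1, q.2.1⟩
    have hpt : ∀ q : P, PrimeSpectrum.comap φ.hom (pt q) = p := fun q =>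
      PrimeSpectrum.ext q.2.2.over.symm
    let G : P → {u : U // π u = hW.fromSpec p} := fun q =>
      ⟨hU.fromSpec (pt q), (hπ _).trans (congrArg hW.fromSpec (hpt q))⟩
    have hG : Function.Bijective G := by
      refine ⟨fun q q' h => ?_, fun u => ?_⟩
      · have h' := congrArg (fun z : {u : U // π u = hW.fromSpec p} => z.1) h
        have := hU.fromSpec.isOpenEmbedding.injective h'
        exact Subtype.ext (congrArg PrimeSpectrum.asIdeal this)
      · obtain ⟨q, hq⟩ : u.1 ∈ Set.range hU.fromSpec := by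
          rw [hU.range_fromSpec]
          show π u.1 ∈ W
          rw [u.2]
          exact hW.range_fromSpec.le ⟨p, rfl⟩
        have hqp : PrimeSpectrum.comap φ.hom q = p :=
          hW.fromSpec.isOpenEmbedding.injective (by rw [← hπ, hq, u.2])
        exact ⟨⟨q.asIdeal, q.isPrime, ⟨congrArg PrimeSpectrum.asIdeal hqp.symm⟩⟩, Subtype.ext hq⟩
    haveI : Finite P := (Algebra.QuasiFinite.finite_primesOver (R := Γ(V, W)) (S := Γ(U, π ⁻¹ᵁ W)) p.asIdeal).to_subtype
    letI := Fintype.ofFinite P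
    unfold MoreMor.fibreIntegral
    rw [← finsum_eq_of_bijective G hG (f := fun q : P =>
      ((q.1.ramificationIdx Γ(V, W) * q.1.inertiaDeg Γ(V, W) : ℕ) : ℤ)) ?_, finsum_eq_sum_of_fintype,
      ← Nat.cast_sum, Ideal.sum_ramification_inertia_eq_finrank_fiber]
    · congr 1
      have h := Module.rankAtStalk_baseChange (R := Γ(V, W)) (S := p.asIdeal.ResidueField)
        (M := Γ(U, π ⁻¹ᵁ W)) ⟨⊥, Ideal.isPrime_bot⟩
      rw [Module.rankAtStalk_eq_finrank_of_free] at h
      refine h.trans (congrArg ρ (PrimeSpectrum.ext ?_))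
      exact (RingHom.ker_eq_comap_bot _).symm.trans (Ideal.ker_algebraMap_residueField _)
    · intro q
      refine ((LW_mul_sepDegree π _).trans ?_).symm
      have h1 : dg π (hU.fromSpec (pt q)) = dg (Spec.map φ) (pt q) := by
        rw [← dg_comp_left hU.fromSpec π, ← dg_comp_right (Spec.map φ) hW.fromSpec]
        simp only [hsq]
      show (dg π (hU.fromSpec (pt q)) : ℤ) = _
      rw [h1, dg, (dg_Spec φ (pt q)).1, (dg_Spec φ (pt q)).2]
  obtain ⟨p₀, hp₀⟩ : v ∈ Set.range hW.fromSpec := by rw [hW.range_fromSpec]; exact hvW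
  refine ⟨hW.fromSpec '' {p | ρ p = ρ p₀}, hW.fromSpec.isOpenEmbedding.isOpenMap _ (hρ {ρ p₀}),
    ⟨p₀, rfl, hp₀⟩, ?_⟩
  rintro _ ⟨p, hp, rfl⟩
  rw [← hp₀, key, key, hp]

theorem len_pos (f : X ⟶ Y) [LocallyQuasiFinite f] [LocallyOfFiniteType f] (x : X) :
    0 < LW f x := by
  obtain ⟨W, hW, hxW, -⟩ := exists_isAffineOpen_mem_and_subset (x := f x) (U := (⊤ : Y.Opens)) trivial
  obtain ⟨O, hO, hxO, hle⟩ := exists_isAffineOpen_mem_and_subset (x := x) (U := f ⁻¹ᵁ W) hxW
  let φ := f.appLE W O hle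
  have hsq : Spec.map φ ≫ hW.fromSpec = hO.fromSpec ≫ f := hW.SpecMap_appLE_fromSpec f hO hle
  obtain ⟨q, rfl⟩ : x ∈ Set.range hO.fromSpec := by rw [hO.range_fromSpec]; exact hxO
  have hlen : 0 < len (f.stalkMap (hO.fromSpec q)).hom := by
    have hqf : φ.hom.QuasiFinite :=
      HasRingHomProperty.appLE (P := @LocallyQuasiFinite) f inferInstance ⟨W, hW⟩ ⟨O, hO⟩ hle
    algebraize [φ.hom]
    obtain ⟨h1, h2, h3⟩ := unram_stalk hO.fromSpec q
    obtain ⟨g1, g2, -⟩ := unram_stalk hW.fromSpec ((Spec.map φ) q)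
    rw [← len_comp_left _ _ h3 (map_maximalIdeal_of_unramified _ h1 h2)]
    show 0 < len (f.stalkMap (hO.fromSpec q) ≫ hO.fromSpec.stalkMap q).hom
    rw [← Scheme.Hom.stalkMap_comp]
    have e : ∀ {F G : Spec Γ(X, O) ⟶ Y}, F = G → len (G.stalkMap q).hom = len (F.stalkMap q).hom := by
      rintro F G rfl; rfl
    rw [e hsq, Scheme.Hom.stalkMap_comp, CommRingCat.hom_comp,
      len_comp_right _ _ (map_maximalIdeal_of_unramified _ g1 g2), (dg_Spec φ q).1]
    exact ramificationIdx_pos_of_quasiFinite q.asIdeal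
  refine Nat.mul_pos hlen (Nat.pos_of_ne_zero fun h => ?_)
  have h' := sepd_mul_insep (f.stalkMap (hO.fromSpec q)).hom
  rw [h, mul_zero] at h'
  letI := (IsLocalRing.ResidueField.map (f.stalkMap (hO.fromSpec q)).hom).toAlgebra
  haveI : Module.Finite (IsLocalRing.ResidueField (Y.presheaf.stalk (f (hO.fromSpec q))))
      (IsLocalRing.ResidueField (X.presheaf.stalk (hO.fromSpec q))) := finite_residue f _
  have : 0 < rdeg (f.stalkMap (hO.fromSpec q)).hom := Module.finrank_pos
  omega

end Groth.Agent.H7Weight.FlatLQF
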