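import Groth.Agent.H7Weight.Constructible
import Groth.Agent.H7Lim.Topology

/-!
# Constructibility of the level sets of fibre integrals
-/

set_option autoImplicit false
set_option backward.isDefEq.respectTransparency false
set_option linter.style.haveILetI false

universe u

open AlgebraicGeometry CategoryTheory Limits Topology

namespace Groth.Agent.H7Weight

variable {X Y : Scheme.{u}} {f : X ⟶ Y} [LocallyQuasiFinite f] [LocallyOfFinitePresentation f]
  [QuasiCompact f] [QuasiSeparated f] {w : X → ℤ}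

theorem exists_constructible_integral_const_of_levels (hlev : ∀ n, IsLocallyConstructible {x : X | w x = n})
    {Y₀ : Y.Opens}
    (hY₀ : IsAffineOpen Y₀) (y : Y₀) :
    ∃ E : Set Y₀, IsConstructible E ∧ y ∈ E ∧
      ∀ z ∈ E, MoreMor.fibreIntegral f w z.1 = MoreMor.fibreIntegral f w y.1 := by
  classical
  obtain ⟨Ω, _, _, η, hη⟩ := exists_geomPt' y.1
  have := finite_pts f η (f.finite_preimage_singleton _)
  cases nonempty_fintype (Pts f η)
  obtain ⟨V, g, _, η', hη', hD⟩ := exists_singles f η Finset.univ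
  let D : ∀ s : Pts f η, Single g η' s := fun s => (hD s (Finset.mem_univ _)).some
  have hgv : g (pt η') = y.1 := (congr(pt $hη')).trans hη
  obtain ⟨_, ⟨(W : V.Opens), (hW : IsAffineOpen W), rfl⟩, hvW, hWsub⟩ :=
    V.isBasis_affineOpens.exists_subset_of_mem_open
      (show pt η' ∈ g ⁻¹' (Y₀ : Set Y) by show g (pt η') ∈ Y₀; rw [hgv]; exact y.2)
      (Y₀.2.preimage g.continuous)
  obtain ⟨η₁, hη₁⟩ : ∃ η₁ : Spec (CommRingCat.of Ω) ⟶ W, η₁ ≫ W.ι = η' := by
    refine ⟨IsOpenImmersion.lift W.ι η' ?_, IsOpenImmersion.lift_fac _ _ _⟩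
    rintro _ ⟨z, rfl⟩
    rw [Subsingleton.elim z (IsLocalRing.closedPoint Ω), Scheme.Opens.range_ι]
    exact hvW
  let A : ∀ s : Pts f η, Single (W.ι ≫ g) η₁ s := fun s => (D s).baseChange W.ι hη₁
  let q := pullback.snd f (W.ι ≫ g)
  have : IsAffine W.toScheme := hW
  have : LocallyOfFinitePresentation q := MorphismProperty.pullback_snd _ _ inferInstance
  have : CompactSpace ↥(pullback f (W.ι ≫ g)) := QuasiCompact.compactSpace_of_compactSpace q
  have : QuasiSeparatedSpace ↥(pullback f (W.ι ≫ g)) :=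
    quasiSeparatedSpace_of_quasiSeparated q
  let S : Pts f η → Set ↥(pullback f (W.ι ≫ g)) := fun s => Set.range (A s).C.lift
  have hS : ∀ s, IsConstructible (S s) := fun s => by
    have : CompactSpace (A s).C.U := QuasiCompact.compactSpace_of_compactSpace (A s).C.π
    exact (isCompact_range (A s).C.lift.continuous).isConstructible (A s).C.lift.isOpenEmbedding.isOpen_range
  let bad : Set ↥(pullback f (W.ι ≫ g)) :=
    (⋃ s, S s)ᶜ ∪ ⋃ p ∈ {p : Pts f η × Pts f η | p.1 ≠ p.2}, S p.1 ∩ S p.2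
  have hbad : IsConstructible bad :=
    (IsConstructible.iUnion hS).compl.union
      (IsConstructible.biUnion (Set.toFinite _) fun p _ => (hS p.1).inter (hS p.2))
  have hv : pt η₁ ∉ q '' bad := by
    rintro ⟨z, hz, hzv⟩
    obtain ⟨t, rfl⟩ := exists_pts q η₁ z hzv
    let s₀ : Pts f η := ⟨t.1 ≫ pullback.fst f (W.ι ≫ g), by
      rw [Category.assoc, pullback.condition, ← Category.assoc, t.2, reassoc_of% hη₁, hη']⟩
    have huniq : ∀ s, pt t.1 ∈ S s → s = s₀ := by
      intro s hs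
      have hs' : Set.range t.1 ⊆ Set.range (A s).C.lift := by
        rintro _ ⟨x, rfl⟩
        rw [Subsingleton.elim x (IsLocalRing.closedPoint Ω)]
        exact hs
      have e := (A s).unique ⟨IsOpenImmersion.lift (A s).C.lift t.1 hs', by
        rw [← (A s).C.lift_snd, IsOpenImmersion.lift_fac_assoc, t.2]⟩
      refine Subtype.ext ?_
      show s.1 = t.1 ≫ pullback.fst f (W.ι ≫ g)
      rw [← (A s).p_a, ← e, ← (A s).C.lift_fst]
      exact IsOpenImmersion.lift_fac_assoc _ _ _ _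
    rcases hz with hz | hz
    · refine hz (Set.mem_iUnion.2 ⟨s₀, ?_⟩)
      have : (A s₀).p.1 ≫ (A s₀).C.lift = t.1 := by
        apply pullback.hom_ext
        · rw [Category.assoc, Chart.lift_fst, (A s₀).p_a]
        · rw [Category.assoc, Chart.lift_snd, (A s₀).p.2, t.2]
      exact ⟨pt (A s₀).p.1, congr(pt $this)⟩
    · simp only [Set.mem_iUnion] at hz
      obtain ⟨p, hp, h1, h2⟩ := hz
      exact hp ((huniq _ h1).trans (huniq _ h2).symm)
  have hsub : ∀ s, Subsingleton (Pts (A s).C.π η₁) := fun s =>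
    ⟨fun a b => ((A s).unique a).trans ((A s).unique b).symm⟩
  choose Zr hZr hZrmem hZrsub using fun s => exists_constructible_radicial (A s).C.π η₁ (hsub s)
  let L : ∀ s, Set (A s).C.U := fun s => (A s).C.a ⁻¹' {x | w x = w (pt s.1)}
  have hL : ∀ s, IsConstructible ((A s).C.π '' L s) := fun s => by
    haveI : IsAffine (A s).C.U := isAffine_of_isAffineHom (A s).C.π
    haveI : LocallyOfFinitePresentation (A s).C.π := by
      rw [← (A s).C.lift_snd]
      infer_instance
    exact (A s).C.π.isConstructible_image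
      (H7Lim.isLocallyConstructible_preimage (hlev _) (A s).C.a).isConstructible
  let Z : Set W.toScheme := (q '' bad)ᶜ ∩ ⋂ s, (Zr s ∩ (A s).C.π '' L s)
  have hZ : IsConstructible Z := (q.isConstructible_image hbad).compl.inter
    (IsConstructible.iInter fun s => (hZr s).inter (hL s))
  let k : W.toScheme ⟶ Y₀.toScheme := IsOpenImmersion.lift Y₀.ι (W.ι ≫ g) (by
    rintro _ ⟨z, rfl⟩; rw [Scheme.Opens.range_ι]; exact hWsub z.2)
  have hk : k ≫ Y₀.ι = W.ι ≫ g := IsOpenImmersion.lift_fac _ _ _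
  have : Etale (k ≫ Y₀.ι) := by rw [hk]; infer_instance
  have : Etale k := Etale.of_comp _ Y₀.ι
  have : IsAffine Y₀.toScheme := hY₀
  refine ⟨k '' Z, k.isConstructible_image hZ, ⟨pt η₁, ⟨hv, Set.mem_iInter.2 fun s => ⟨hZrmem s,
    pt (A s).p.1, show w ((A s).C.a (pt (A s).p.1)) = _ by rw [← pt_comp, (A s).p_a],
    by rw [← pt_comp, (A s).p.2]⟩⟩, Subtype.ext ?_⟩, ?_⟩
  · exact (congr($hk (pt η₁))).trans ((congrArg g (congr(pt $hη₁))).trans hgv)
  rintro _ ⟨v, ⟨hv', hvZ⟩, rfl⟩
  obtain ⟨Ω', _, _, ζ, hζ⟩ := exists_geomPt' v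
  have hpt : pt (ζ ≫ W.ι ≫ g) = (k v).1 := by
    rw [← hζ]; exact (congr($hk (pt ζ))).symm
  have := finite_pts f (ζ ≫ W.ι ≫ g) (f.finite_preimage_singleton _)
  rw [← hpt, ← hη, fibreIntegral_eq_of_finite_pts, fibreIntegral_eq_of_finite_pts]
  cases nonempty_fintype (Pts f (ζ ≫ W.ι ≫ g))
  have : ∀ s, Fintype (Pts (A s).C.π ζ) := fun s => @Fintype.ofFinite _ ((A s).C.finite_pts ζ)
  let Φ : (Σ s, Pts (A s).C.π ζ) → Pts f (ζ ≫ W.ι ≫ g) := fun p => (A p.1).C.ptsMap p.2
  have hmem : ∀ p : (Σ s, Pts (A s).C.π ζ), q (pt (p.2.1 ≫ (A p.1).C.lift)) = v := fun p => by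
    rw [← pt_comp, Category.assoc, Chart.lift_snd, p.2.2, hζ]
  have hΦ : Function.Bijective Φ := by
    constructor
    · rintro ⟨s, p⟩ ⟨t, p'⟩ e
      have e' : p.1 ≫ (A s).C.lift = p'.1 ≫ (A t).C.lift := by
        apply pullback.hom_ext
        · simp only [Category.assoc, Chart.lift_fst]; exact congr($(e).1)
        · simp only [Category.assoc, Chart.lift_snd]; rw [p.2, p'.2]
      obtain rfl : s = t := by
        by_contra hst
        exact hv' ⟨_, Or.inr (Set.mem_biUnion (x := (s, t)) hst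
          ⟨⟨pt p.1, rfl⟩, ⟨pt p'.1, congr(pt $e').symm⟩⟩), hmem ⟨s, p⟩⟩
      obtain rfl := (A s).C.ptsMap_injective ζ (a₁ := p) (a₂ := p') e
      rfl
    · intro r
      let r' : Spec (CommRingCat.of Ω') ⟶ pullback f (W.ι ≫ g) := pullback.lift r.1 ζ r.2
      have hr : pt r' ∈ ⋃ s, S s := by
        by_contra hne
        exact hv' ⟨pt r', Or.inl hne, by rw [← pt_comp, pullback.lift_snd, hζ]⟩
      obtain ⟨s, hs⟩ := Set.mem_iUnion.1 hr
      have hs' : Set.range r' ⊆ Set.range (A s).C.lift := by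
        rintro _ ⟨x, rfl⟩
        rw [Subsingleton.elim x (IsLocalRing.closedPoint Ω')]
        exact hs
      refine ⟨⟨s, ⟨IsOpenImmersion.lift (A s).C.lift r' hs', by
        rw [← (A s).C.lift_snd, IsOpenImmersion.lift_fac_assoc, pullback.lift_snd]⟩⟩, Subtype.ext ?_⟩
      show IsOpenImmersion.lift (A s).C.lift r' hs' ≫ (A s).C.a = r.1
      rw [← (A s).C.lift_fst, IsOpenImmersion.lift_fac_assoc, pullback.lift_fst]
  rw [geomSum, geomSum, finsum_eq_sum_of_fintype, finsum_eq_sum_of_fintype,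
    ← (Equiv.ofBijective Φ hΦ).sum_comp, Fintype.sum_sigma]
  refine Finset.sum_congr rfl fun s _ => ?_
  have h1 : geomSum (A s).C.π (w ∘ (A s).C.a) ζ = w (pt s.1) := by
    obtain ⟨hs1, u, hu, huv⟩ := Set.mem_iInter.1 hvZ s
    obtain ⟨r, rfl⟩ := exists_pts (A s).C.π ζ u (huv.trans hζ.symm)
    haveI := hZrsub s Ω' ζ (hζ ▸ hs1)
    rw [geomSum, finsum_eq_single _ r fun t ht => absurd (Subsingleton.elim t r) ht]
    exact hu
  rw [← h1, geomSum, finsum_eq_sum_of_fintype]
  rfl

theorem exists_constructible_integral_const (hw : MoreMor.IsWeighting f w) {Y₀ : Y.Opens}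
    (hY₀ : IsAffineOpen Y₀) (y : Y₀) :
    ∃ E : Set Y₀, IsConstructible E ∧ y ∈ E ∧
      ∀ z ∈ E, MoreMor.fibreIntegral f w z.1 = MoreMor.fibreIntegral f w y.1 :=
  exists_constructible_integral_const_of_levels (isLocallyConstructible_levels hw) hY₀ y

theorem isLocallyConstructible_fibreIntegral_of_levels
    (hlev : ∀ n, IsLocallyConstructible {x : X | w x = n}) (n : ℤ) :
    IsLocallyConstructible {y : Y | MoreMor.fibreIntegral f w y = n} := by
  intro y
  obtain ⟨_, ⟨(Y₀ : Y.Opens), (hY₀ : IsAffineOpen Y₀), rfl⟩, hy, -⟩ :=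
    Y.isBasis_affineOpens.exists_subset_of_mem_open (Set.mem_univ y) isOpen_univ
  have : IsAffine Y₀.toScheme := hY₀
  exact ⟨Y₀, Y₀.2.mem_nhds hy, Y₀.2,
    (levels_of_locally_const (T := Y₀.toScheme) (fun z => MoreMor.fibreIntegral f w z.1)
      (exists_constructible_integral_const_of_levels hlev hY₀)).2 n⟩

theorem isLocallyConstructible_fibreIntegral (hw : MoreMor.IsWeighting f w) (n : ℤ) :
    IsLocallyConstructible {y : Y | MoreMor.fibreIntegral f w y = n} :=
  isLocallyConstructible_fibreIntegral_of_levels (isLocallyConstructible_levels hw) n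

end Groth.Agent.H7Weight
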