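import Mathlib

/-!
# Multiplicities of local homomorphisms: length of the closed fibre and residue degrees
-/

set_option autoImplicit false
set_option linter.style.haveILetI false

universe u

open IsLocalRing
open scoped TensorProduct

namespace Groth.Agent.H7Weight.LocalMult

variable {A B C : Type u} [CommRing A] [CommRing B] [CommRing C] [IsLocalRing A] [IsLocalRing B]
  [IsLocalRing C]

/-- Length of the closed fibre. -/
noncomputable def len (φ : A →+* B) : ℕ :=
  (Module.length B (B ⧸ (maximalIdeal A).map φ)).toNat

/-- Inseparable degree of the residue extension. -/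
noncomputable def insep (φ : A →+* B) [IsLocalHom φ] : ℕ :=
  letI := (ResidueField.map φ).toAlgebra
  Field.finInsepDegree (ResidueField A) (ResidueField B)

/-- Separable degree of the residue extension. -/
noncomputable def sepd (φ : A →+* B) [IsLocalHom φ] : ℕ :=
  letI := (ResidueField.map φ).toAlgebra
  Field.finSepDegree (ResidueField A) (ResidueField B)

/-- Degree of the residue extension. -/
noncomputable def rdeg (φ : A →+* B) [IsLocalHom φ] : ℕ :=
  letI := (ResidueField.map φ).toAlgebra
  Module.finrank (ResidueField A) (ResidueField B)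

theorem sepd_mul_insep (φ : A →+* B) [IsLocalHom φ] : sepd φ * insep φ = rdeg φ :=
  letI := (ResidueField.map φ).toAlgebra
  Field.finSepDegree_mul_finInsepDegree _ _

theorem map_maximalIdeal_of_unramified (β : B →+* C) [IsLocalHom β] (hu : β.FormallyUnramified)
    (he : β.EssFiniteType) : (maximalIdeal B).map β = maximalIdeal C := by
  algebraize [β]
  exact Algebra.FormallyUnramified.map_maximalIdeal

theorem isSeparable_of_unramified (β : B →+* C) [IsLocalHom β] (hu : β.FormallyUnramified)
    (he : β.EssFiniteType) :
    letI := (ResidueField.map β).toAlgebra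
    Algebra.IsSeparable (ResidueField B) (ResidueField C) := by
  algebraize [β]
  haveI : IsLocalHom (algebraMap B C) := ‹IsLocalHom β›
  convert (inferInstance : Algebra.IsSeparable (ResidueField B) (ResidueField C)) using 1
  refine Algebra.algebra_ext _ _ fun x => ?_
  obtain ⟨y, rfl⟩ := residue_surjective x
  rfl

theorem len_comp_left (φ : A →+* B) (β : B →+* C) [IsLocalHom β] (hβ : β.Flat)
    (hmax : (maximalIdeal B).map β = maximalIdeal C) : len (β.comp φ) = len φ := by
  algebraize [β]
  haveI : IsLocalHom (algebraMap B C) := ‹IsLocalHom β›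
  unfold len
  set I := (maximalIdeal A).map φ
  have hI : (maximalIdeal A).map (β.comp φ) = I.map (algebraMap B C) := (Ideal.map_map φ β).symm
  rw [hI, (Algebra.TensorProduct.quotIdealMapEquivTensorQuot C I).toLinearEquiv.length_eq,
    IsLocalRing.length_baseChange B C]
  have h1 : (maximalIdeal B).map (algebraMap B C) = maximalIdeal C := hmax
  rw [h1]
  haveI : IsSimpleModule C (C ⧸ maximalIdeal C) :=
    isSimpleModule_iff_isCoatom.2 (Ideal.isMaximal_def.1 (maximalIdeal.isMaximal C))
  rw [Module.length_eq_one (R := C) (M := C ⧸ maximalIdeal C), mul_one]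

theorem len_comp_right (φ : B →+* C) (α : A →+* B) (hmax : (maximalIdeal A).map α = maximalIdeal B) :
    len (φ.comp α) = len φ := by
  unfold len
  rw [← Ideal.map_map, hmax]

theorem rdeg_comp (φ : A →+* B) (β : B →+* C) [IsLocalHom φ] [IsLocalHom β] :
    rdeg (β.comp φ) = rdeg φ * rdeg β := by
  letI := (ResidueField.map φ).toAlgebra
  letI := (ResidueField.map β).toAlgebra
  letI := (ResidueField.map (β.comp φ)).toAlgebra
  haveI : IsScalarTower (ResidueField A) (ResidueField B) (ResidueField C) :=
    IsScalarTower.of_algebraMap_eq' (ResidueField.map_comp φ β)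
  exact (Module.finrank_mul_finrank (ResidueField A) (ResidueField B) (ResidueField C)).symm

theorem insep_comp (φ : A →+* B) (β : B →+* C) [IsLocalHom φ] [IsLocalHom β]
    (halg : letI := (ResidueField.map φ).toAlgebra
      Algebra.IsAlgebraic (ResidueField A) (ResidueField B)) :
    insep (β.comp φ) = insep φ * insep β := by
  letI := (ResidueField.map φ).toAlgebra
  letI := (ResidueField.map β).toAlgebra
  letI := (ResidueField.map (β.comp φ)).toAlgebra
  haveI : IsScalarTower (ResidueField A) (ResidueField B) (ResidueField C) :=
    IsScalarTower.of_algebraMap_eq' (ResidueField.map_comp φ β)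
  haveI := halg
  exact (Field.finInsepDegree_mul_finInsepDegree_of_isAlgebraic
    (ResidueField A) (ResidueField B) (ResidueField C)).symm

theorem insep_eq_one (φ : A →+* B) [IsLocalHom φ]
    (hsep : letI := (ResidueField.map φ).toAlgebra
      Algebra.IsSeparable (ResidueField A) (ResidueField B)) : insep φ = 1 := by
  letI := (ResidueField.map φ).toAlgebra
  haveI := hsep
  exact Algebra.IsSeparable.finInsepDegree_eq _ _

theorem rdeg_eq_one_of_surjective (φ : A →+* B) [IsLocalHom φ] (hs : Function.Surjective φ) :
    rdeg φ = 1 := by
  letI := (ResidueField.map φ).toAlgebra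
  have h : Function.Surjective (ResidueField.map φ) := by
    intro y
    obtain ⟨b, rfl⟩ := residue_surjective y
    obtain ⟨a, rfl⟩ := hs b
    exact ⟨residue A a, rfl⟩
  exact (LinearEquiv.ofBijective (Algebra.linearMap (ResidueField A) (ResidueField B))
    ⟨RingHom.injective (ResidueField.map φ), h⟩).finrank_eq.symm.trans (Module.finrank_self _)

/-- The multiplicity `length · inseparable degree`. -/
noncomputable def mult (φ : A →+* B) [IsLocalHom φ] : ℕ := len φ * insep φ

theorem mult_comp_left (φ : A →+* B) (β : B →+* C) [IsLocalHom φ] [IsLocalHom β] (hf : β.Flat)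
    (hu : β.FormallyUnramified) (he : β.EssFiniteType)
    (halg : letI := (ResidueField.map φ).toAlgebra
      Algebra.IsAlgebraic (ResidueField A) (ResidueField B)) :
    mult (β.comp φ) = mult φ := by
  rw [mult, mult, len_comp_left φ β hf (map_maximalIdeal_of_unramified β hu he), insep_comp φ β halg,
    insep_eq_one β (isSeparable_of_unramified β hu he), mul_one]

theorem mult_comp_right (φ : B →+* C) (α : A →+* B) [IsLocalHom φ] [IsLocalHom α]
    (hu : α.FormallyUnramified) (he : α.EssFiniteType) : mult (φ.comp α) = mult φ := by
  have hs := isSeparable_of_unramified α hu he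
  letI := (ResidueField.map α).toAlgebra
  haveI := hs
  rw [mult, mult, len_comp_right φ α (map_maximalIdeal_of_unramified α hu he),
    insep_comp α φ (Algebra.IsSeparable.isAlgebraic (ResidueField A) (ResidueField B)), insep_eq_one α hs, one_mul]

/-- For a quasi-finite algebra the closed fibre of a local ring has finite length. -/
theorem ramificationIdx_pos_of_quasiFinite {R S : Type u} [CommRing R] [CommRing S] [Algebra R S]
    [Algebra.QuasiFinite R S] (q : Ideal S) [q.IsPrime] : 0 < q.ramificationIdx R := by
  let p := q.under R
  let Sq := Localization.AtPrime q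
  rw [Ideal.ramificationIdx_def]
  apply ENat.toNat_pos
  · rw [← pos_iff_ne_zero, Module.length_pos_iff, Submodule.Quotient.nontrivial_iff,
      IsScalarTower.algebraMap_eq R S, ← Ideal.map_map, ← lt_top_iff_ne_top]
    grw [Ideal.map_mono Ideal.map_comap_le, Localization.AtPrime.map_eq_maximalIdeal]
    exact (IsLocalRing.maximalIdeal.isMaximal _).lt_top
  · let r := PrimeSpectrum.primesOverOrderIsoFiber R S p (Ideal.primesOver.mk p q)
    have : q = r.1.comap Algebra.TensorProduct.includeRight := by
      rw [← PrimeSpectrum.coe_primesOverOrderIsoFiber_symm_apply, OrderIso.symm_apply_apply]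
    let := Localization.AtPrime.algebraOfLiesOver p (r.1.comap Algebra.TensorProduct.includeRight)
    have : IsArtinianRing (Sq ⧸ Ideal.map (algebraMap R Sq) p) := by
      convert (Ideal.Fiber.localizationAlgEquivQuotient p r.1).toRingEquiv.isArtinianRing
    rwa [Module.length_eq_of_surjective (R := Sq ⧸ p.map (algebraMap R Sq)) Ideal.Quotient.mk_surjective,
      Module.length_ne_top_iff, ← isArtinianRing_iff_isFiniteLength]

theorem len_localRingHom {R S : Type u} [CommRing R] [CommRing S] (φ : R →+* S) (p : Ideal R) [p.IsPrime]
    (q : Ideal S) [q.IsPrime] (hpq : p = q.comap φ) :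
    len (Localization.localRingHom p q φ hpq) = (letI := φ.toAlgebra; q.ramificationIdx R) := by
  letI := φ.toAlgebra
  haveI : q.LiesOver p := ⟨hpq⟩
  rw [Ideal.ramificationIdx_eq p q, len]
  have h : (maximalIdeal (Localization.AtPrime p)).map (Localization.localRingHom p q φ hpq) =
      p.map (algebraMap R (Localization.AtPrime q)) := by
    rw [← Localization.AtPrime.map_eq_maximalIdeal, Ideal.map_map]
    congr 1
    exact RingHom.ext fun x => (Localization.localRingHom_to_map p q φ hpq x).trans
      (IsScalarTower.algebraMap_apply R S (Localization.AtPrime q) x).symm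
  rw [h]

theorem rdeg_localRingHom {R S : Type u} [CommRing R] [CommRing S] (φ : R →+* S) (p : Ideal R) [p.IsPrime]
    (q : Ideal S) [q.IsPrime] (hpq : p = q.comap φ) :
    rdeg (Localization.localRingHom p q φ hpq) = (letI := φ.toAlgebra; q.inertiaDeg R) := by
  letI := φ.toAlgebra
  haveI : q.LiesOver p := ⟨hpq⟩
  letI := Localization.AtPrime.algebraOfLiesOver p q
  rw [Ideal.inertiaDeg_eq p q]
  unfold rdeg
  congr 1
  refine Module.ext' _ _ fun r m => ?_
  obtain ⟨y, rfl⟩ := residue_surjective (R := Localization.AtPrime p) r
  obtain ⟨z, rfl⟩ := residue_surjective (R := Localization.AtPrime q) m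
  rfl

end Groth.Agent.H7Weight.LocalMult
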