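import Groth.Agent.H7Weight.Sep
import Groth.Agent.H7Weight.Constructible
import Groth.Agent.H18Descent.Basic
import Groth.Agent.S0593
import Groth.Agent.H17.Fibre

/-!
# The maximal locus of the fibre integral of a positive weighting is affine
-/

set_option autoImplicit false
set_option backward.isDefEq.respectTransparency false
set_option linter.style.haveILetI false

universe u

open AlgebraicGeometry CategoryTheory Limits TopologicalSpace

namespace Groth.Agent.H7Weight

variable {X Y V : Scheme.{u}}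

/-- A weighting restricts to open subschemes of the source. -/
theorem isWeighting_openImmersion {U : Scheme.{u}} (j : U ⟶ X) [IsOpenImmersion j] {f : X ⟶ Y} {w : X → ℤ}
    (hw : MoreMor.IsWeighting f w) : MoreMor.IsWeighting (j ≫ f) (w ∘ j) := by
  intro V g _ O hO
  let C' := Chart.ofOpen O hO
  let C : Chart f g :=
    { U := C'.U
      a := C'.a ≫ j
      π := C'.π
      finite := C'.finite
      w := by rw [Category.assoc, C'.w]
      isOpen := by
        let m : pullback (j ≫ f) g ⟶ pullback f g :=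
          pullback.map _ _ _ _ j (𝟙 _) (𝟙 _) (by simp) (by simp)
        have key : pullback.lift (C'.a ≫ j) C'.π (by rw [Category.assoc, C'.w]) = C'.lift ≫ m := by
          apply pullback.hom_ext <;> simp [m]
        rw [key]
        infer_instance }
  exact C.isLocallyConstant hw

theorem fibreIntegral_nonneg {f : X ⟶ Y} {w : X → ℤ} (hpos : ∀ x, 0 < w x) (y : Y) :
    0 ≤ MoreMor.fibreIntegral f w y :=
  finsum_nonneg fun u => mul_nonneg (hpos _).le (Int.natCast_nonneg _)

theorem fibreIntegral_pos {f : X ⟶ Y} [LocallyQuasiFinite f] [LocallyOfFiniteType f] [QuasiCompact f]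
    {w : X → ℤ} (hpos : ∀ x, 0 < w x) (x : X) : 0 < MoreMor.fibreIntegral f w (f x) :=
  (hpos x).trans_le (le_fibreIntegral f w (fun u => (hpos u).le) x (f.finite_preimage_singleton _))

/-- Splitting of the geometric sum over a partition into open pieces. -/
theorem geomSum_split {Ω : Type u} [Field Ω] {P : Scheme.{u}} (q : P ⟶ V) (η : Spec (CommRingCat.of Ω) ⟶ V)
    [Finite (Pts q η)] {ι : Type u} [Finite ι] {A : ι → Scheme.{u}} (a : ∀ i, A i ⟶ P)
    [∀ i, IsOpenImmersion (a i)] (R : P.Opens)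
    (hR : ∀ z, z ∈ R ↔ ∀ i, z ∉ Set.range (a i))
    (hdisj : ∀ (i j) (p : Pts (a i ≫ q) η) (p' : Pts (a j ≫ q) η), p.1 ≫ a i = p'.1 ≫ a j → i = j)
    (W : P → ℤ) :
    geomSum q W η = (∑ᶠ i, geomSum (a i ≫ q) (W ∘ a i) η) + geomSum (R.ι ≫ q) (W ∘ R.ι) η := by
  classical
  have hinjm : ∀ {B : Scheme.{u}} (b : B ⟶ P) [Mono b],
      Function.Injective fun p : Pts (b ≫ q) η => (⟨p.1 ≫ b, by rw [Category.assoc, p.2]⟩ : Pts q η) :=
    fun b _ p p' e => Subtype.ext ((cancel_mono b).1 (congrArg Subtype.val e))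
  have : ∀ i, Finite (Pts (a i ≫ q) η) := fun i => Finite.of_injective _ (hinjm (a i))
  have : Finite (Pts (R.ι ≫ q) η) := Finite.of_injective _ (hinjm R.ι)
  cases nonempty_fintype ι
  have : ∀ i, Fintype (Pts (a i ≫ q) η) := fun i => Fintype.ofFinite _
  cases nonempty_fintype (Pts (R.ι ≫ q) η)
  cases nonempty_fintype (Pts q η)
  let Φ : (Σ i, Pts (a i ≫ q) η) ⊕ Pts (R.ι ≫ q) η → Pts q η := Sum.elim
    (fun p => ⟨p.2.1 ≫ a p.1, by rw [Category.assoc, p.2.2]⟩)
    (fun p => ⟨p.1 ≫ R.ι, by rw [Category.assoc, p.2]⟩)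
  have hbij : Function.Bijective Φ := by
    refine ⟨Function.Injective.sumElim ?_ (hinjm R.ι) ?_, fun t => ?_⟩
    · rintro ⟨i, p⟩ ⟨j, p'⟩ e
      obtain rfl := hdisj i j p p' (congrArg Subtype.val e)
      exact congrArg (Sigma.mk i) (hinjm (a i) e)
    · rintro ⟨i, p⟩ p' e
      have h : a i (pt p.1) = R.ι (pt p'.1) := congr(pt $(congrArg Subtype.val e))
      exact (hR _).1 (pt p'.1).2 i ⟨pt p.1, h⟩
    · have hsub : ∀ {B : Scheme.{u}} (b : B ⟶ P) [IsOpenImmersion b], pt t.1 ∈ Set.range b →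
          ∃ p : Pts (b ≫ q) η, p.1 ≫ b = t.1 := by
        intro B b _ hb
        have hs : Set.range t.1 ⊆ Set.range b := by
          rintro _ ⟨x, rfl⟩
          rw [Subsingleton.elim x (IsLocalRing.closedPoint Ω)]
          exact hb
        exact ⟨⟨IsOpenImmersion.lift b t.1 hs, by rw [IsOpenImmersion.lift_fac_assoc, t.2]⟩,
          IsOpenImmersion.lift_fac _ _ _⟩
      by_cases h : ∃ i, pt t.1 ∈ Set.range (a i)
      · obtain ⟨i, hi⟩ := h
        obtain ⟨p, hp⟩ := hsub (a i) hi
        exact ⟨.inl ⟨i, p⟩, Subtype.ext hp⟩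
      · obtain ⟨p, hp⟩ := hsub R.ι (by
          rw [Scheme.Opens.range_ι]; exact (hR _).2 fun i hi => h ⟨i, hi⟩)
        exact ⟨.inr p, Subtype.ext hp⟩
  simp only [geomSum, finsum_eq_sum_of_fintype]
  rw [← (Equiv.ofBijective Φ hbij).sum_comp, Fintype.sum_sum_type, Fintype.sum_sigma]
  rfl

/-- The inductive hypothesis: maximal loci of value `< d` are affine. -/
def AffineBelow (d : ℤ) : Prop :=
  ∀ (X Y : Scheme.{u}) [IsAffine X] [IsAffine Y] (f : X ⟶ Y) [LocallyQuasiFinite f] [LocallyOfFiniteType f]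
    (w : X → ℤ), MoreMor.IsWeighting f w → (∀ x, 0 < w x) → ∀ e : ℤ, e < d →
    (∀ y : Y, MoreMor.fibreIntegral f w y ≤ e) → ∀ Yd : Y.Opens,
    (∀ y, y ∈ Yd ↔ MoreMor.fibreIntegral f w y = e) → IsAffineOpen Yd

/-- The surjective case. -/
theorem isAffineHom_max_surjective {d : ℤ} (ih : AffineBelow.{u} d) [IsAffine X] [IsAffine Y] (f : X ⟶ Y)
    [LocallyQuasiFinite f] [LocallyOfFiniteType f] [Surjective f]
    {w : X → ℤ} (hw : MoreMor.IsWeighting f w) (hpos : ∀ x, 0 < w x)
    (hmax : ∀ y : Y, MoreMor.fibreIntegral f w y ≤ d) (Yd : Y.Opens)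
    (hYd : ∀ y, y ∈ Yd ↔ MoreMor.fibreIntegral f w y = d) : IsAffineHom Yd.ι := by
  classical
  have key : ∀ y : Y, ∃ U : Y.Opens, y ∈ U ∧ IsAffineHom (Yd.ι ∣_ U) := by
    intro y
    have hy : 0 < MoreMor.fibreIntegral f w y := by
      obtain ⟨x, rfl⟩ := f.surjective y
      exact fibreIntegral_pos hpos x
    obtain ⟨Ω, _, _, η, rfl⟩ := exists_geomPt' y
    have := finite_pts f η (f.finite_preimage_singleton _)
    obtain ⟨V, g, _, η', hη', D, V₁, hV₁, hinj⟩ := exists_singles_injective (f := f) η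
    choose O hO hOc using fun s => (D s).C.exists_nhds_const hw η'
    obtain ⟨_, ⟨(W : V.Opens), (hW : IsAffineOpen W), rfl⟩, hvW, hWsub⟩ :=
      V.isBasis_affineOpens.exists_subset_of_mem_open
        (show pt η' ∈ (V₁ ⊓ ⟨⋂ s, (O s : Set V), isOpen_iInter_of_finite fun s => (O s).2⟩ : V.Opens) from
          ⟨hV₁, Set.mem_iInter.2 hO⟩)
        (V₁ ⊓ ⟨⋂ s, (O s : Set V), isOpen_iInter_of_finite fun s => (O s).2⟩ : V.Opens).2
    haveI : IsAffine W.toScheme := hW
    let gW : W.toScheme ⟶ Y := W.ι ≫ g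
    let q := pullback.snd f gW
    let C := fun s => (D s).C.baseChange W.ι
    haveI : ∀ s, IsFinite ((C s).lift ≫ q) := fun s => by rw [Chart.lift_snd]; infer_instance
    haveI : ∀ s, IsFinite (C s).lift := fun s => .of_comp _ q
    let R : (pullback f gW).Opens := ⟨(⋃ s, Set.range (C s).lift)ᶜ,
      (isClosed_iUnion_of_finite fun s => (C s).lift.isClosedMap.isClosed_range).isOpen_compl⟩
    have hRc : IsClosed (R : Set ↑(pullback f gW)) :=
      isClosed_compl_iff.2 (isOpen_iUnion fun s => (C s).lift.isOpenEmbedding.isOpen_range)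
    haveI : IsClosedImmersion R.ι := .of_isPreimmersion _ (by rw [Scheme.Opens.range_ι]; exact hRc)
    haveI : IsAffine R.toScheme := isAffine_of_isAffineHom R.ι
    have hwP : MoreMor.IsWeighting q (w ∘ pullback.fst f gW) :=
      isWeighting_baseChange hw (IsPullback.of_hasPullback f gW)
    have hwR : MoreMor.IsWeighting (R.ι ≫ q) ((w ∘ pullback.fst f gW) ∘ R.ι) :=
      isWeighting_openImmersion R.ι hwP
    have hsum : ∀ v : W.toScheme, MoreMor.fibreIntegral f w (gW v) = MoreMor.fibreIntegral f w (pt η) +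
        MoreMor.fibreIntegral (R.ι ≫ q) ((w ∘ pullback.fst f gW) ∘ R.ι) v := by
      intro v
      obtain ⟨Ω', _, _, η'', rfl⟩ := exists_geomPt' v
      rw [← fibreIntegral_baseChange (IsPullback.of_hasPullback f gW) w (pt η'')
          (f.finite_preimage_singleton _),
        fibreIntegral_eq_geomSum q _ η'' (q.finite_preimage_singleton _),
        fibreIntegral_eq_geomSum (R.ι ≫ q) _ η'' ((R.ι ≫ q).finite_preimage_singleton _),
        fibreIntegral_eq_geomSum f w η (f.finite_preimage_singleton _)]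
      have := finite_pts q η'' (q.finite_preimage_singleton _)
      rw [geomSum_split q η'' (fun s => (C s).lift) R (fun z => ⟨fun h i hi => h (Set.mem_iUnion.2 ⟨i, hi⟩), fun h hz => (Set.mem_iUnion.1 hz).elim fun i hi => h i hi⟩) ?_]
      · congr 1
        rw [geomSum]
        refine finsum_congr fun s => ?_
        have e1 : geomSum ((C s).lift ≫ q) ((w ∘ pullback.fst f gW) ∘ (C s).lift) η'' =
            geomSum (C s).π (w ∘ (C s).a) η'' := by
          simp only [q, gW, Function.comp_def, ← Scheme.Hom.comp_apply, Chart.lift_snd, Chart.lift_fst]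
        rw [e1, Chart.geomSum_baseChange,
          hOc s Ω' (η'' ≫ W.ι) (Set.mem_iInter.1 (hWsub (pt η'').2).2 s)]
        exact geomSum_single (D s) w
      · intro s t p p' e
        let p₀ : Pts (D s).C.π (η'' ≫ W.ι) :=
          ⟨p.1 ≫ pullback.fst (D s).C.π W.ι, by
            rw [Category.assoc, pullback.condition]
            have this : p.1 ≫ (C s).π = η'' :=
              (congrArg (p.1 ≫ ·) (C s).lift_snd).symm.trans p.2
            exact (Category.assoc _ _ _).symm.trans (congrArg (· ≫ W.ι) this)⟩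
        let p₀' : Pts (D t).C.π (η'' ≫ W.ι) :=
          ⟨p'.1 ≫ pullback.fst (D t).C.π W.ι, by
            rw [Category.assoc, pullback.condition]
            have this : p'.1 ≫ (C t).π = η'' :=
              (congrArg (p'.1 ≫ ·) (C t).lift_snd).symm.trans p'.2
            exact (Category.assoc _ _ _).symm.trans (congrArg (· ≫ W.ι) this)⟩
        have h := hinj Ω' (η'' ≫ W.ι) (hWsub (pt η'').2).1 (a₁ := ⟨s, p₀⟩) (a₂ := ⟨t, p₀'⟩) (Subtype.ext (by
          show (p.1 ≫ _) ≫ (D s).C.a = (p'.1 ≫ _) ≫ (D t).C.a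
          have e' := congrArg (· ≫ pullback.fst f gW) e
          simp only [gW, Category.assoc, Chart.lift_fst] at e'
          simpa [C, Chart.baseChange] using e'))
        exact congrArg Sigma.fst h
    have hT : IsAffineOpen (gW ⁻¹ᵁ Yd) := by
      refine ih R.toScheme W.toScheme (R.ι ≫ q) _ hwR (fun _ => hpos _) (d - MoreMor.fibreIntegral f w (pt η))
        (by omega) (fun v => ?_) _ fun v => ?_
      · have := hsum v
        have := hmax (gW v)
        omega
      · have := hsum v
        show gW v ∈ Yd ↔ _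
        rw [hYd]
        omega
    let U : Y.Opens := ⟨_, gW.isOpenMap.isOpen_range⟩
    let k : W.toScheme ⟶ U.toScheme := IsOpenImmersion.lift U.ι gW (by rw [Scheme.Opens.range_ι]; rfl)
    have hk : k ≫ U.ι = gW := IsOpenImmersion.lift_fac _ _ _
    have : Etale (k ≫ U.ι) := by rw [hk]; infer_instance
    have : Etale k := Etale.of_comp _ U.ι
    have : Surjective k := ⟨fun z => by
      obtain ⟨v, hv⟩ := z.2
      exact ⟨v, U.ι.isOpenEmbedding.injective ((congr($hk v)).trans hv)⟩⟩
    have : QuasiCompact (k ≫ U.ι) := by rw [hk]; infer_instance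
    have : QuasiCompact k := .of_comp k U.ι
    haveI : IsAffineHom (gW ⁻¹ᵁ Yd).ι := by
      haveI : IsAffine (gW ⁻¹ᵁ Yd).toScheme := hT
      exact isAffineHom_of_isAffine _
    have h1 : IsAffineHom (pullback.snd Yd.ι gW) := by
      rw [← (isPullback_morphismRestrict gW Yd).isoPullback_inv_snd]
      infer_instance
    refine ⟨U, ⟨⟨pt η', hvW⟩, congr(pt $hη')⟩, ?_⟩
    have hsq : IsPullback (pullback.fst (Yd.ι ∣_ U) k ≫ (Yd.ι ⁻¹ᵁ U).ι) (pullback.snd (Yd.ι ∣_ U) k) Yd.ι gW :=
      hk ▸ (IsPullback.of_hasPullback (Yd.ι ∣_ U) k).paste_horiz (isPullback_morphismRestrict Yd.ι U).flip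
    have : IsAffineHom (pullback.snd (Yd.ι ∣_ U) k) := by
      rw [← hsq.isoPullback_hom_snd]; infer_instance
    exact MorphismProperty.of_pullback_snd_of_descendsAlong (P := @IsAffineHom)
      (Q := Groth.Agent.H18Descent.fpqc.{u}) ⟨⟨inferInstance, inferInstance⟩, inferInstance⟩ this
  exact IsZariskiLocalAtTarget.of_forall_exists_morphismRestrict key

/-- The maximal locus is affine, by induction on the maximal value. -/
theorem affineBelow : ∀ n : ℕ, AffineBelow.{u} (n + 1) := by
  suffices H : ∀ n : ℕ, AffineBelow.{u} n → AffineBelow.{u} (n + 1) by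
    intro n
    induction n with
    | zero =>
      refine H 0 fun X Y _ _ f _ _ w _ hpos e he hmax Yd hYd => ?_
      have : Yd = ⊥ := by
        ext y
        refine ⟨fun hy => ?_, fun hy => hy.elim⟩
        have := (hYd y).1 hy
        have := fibreIntegral_nonneg (f := f) hpos y
        omega
      exact this ▸ isAffineOpen_bot Y
    | succ n ih => exact H (n + 1) (by exact_mod_cast ih)
  intro n ih X Y _ _ f _ _ w hw hpos e he hmax Yd hYd
  by_cases hlt : e < n
  · exact ih X Y f w hw hpos e hlt hmax Yd hYd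
  obtain rfl : e = n := by omega
  rcases Nat.eq_zero_or_pos n with rfl | hn
  · have : Yd = ⊤ := eq_top_iff.2 fun y _ => (hYd y).2
      (le_antisymm (hmax y) (fibreIntegral_nonneg (f := f) hpos y))
    exact this ▸ isAffineOpen_top Y
  have hI : ∀ x, MoreMor.fibreIntegral (pullback.snd f f) (w ∘ pullback.fst f f) x =
      MoreMor.fibreIntegral f w (f x) := fun x =>
    fibreIntegral_baseChange (IsPullback.of_hasPullback f f) w x (f.finite_preimage_singleton _)
  haveI : Surjective (pullback.snd f f) := ⟨fun x => ⟨pullback.diagonal f x, by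
    rw [← Scheme.Hom.comp_apply, pullback.diagonal_snd]; rfl⟩⟩
  haveI : IsAffineHom (f ⁻¹ᵁ Yd).ι := isAffineHom_max_surjective ih (pullback.snd f f)
    (isWeighting_baseChange hw (IsPullback.of_hasPullback f f)) (fun _ => hpos _)
    (fun x => (hI x).trans_le (hmax _)) (f ⁻¹ᵁ Yd) fun x => by rw [hI]; exact hYd (f x)
  haveI : IsAffine (f ⁻¹ᵁ Yd).toScheme := isAffine_of_isAffineHom (f ⁻¹ᵁ Yd).ι
  haveI : IsFinite (f ∣_ Yd) :=
    isFinite_max_locus (fun y => f.finite_preimage_singleton y) hw hpos _ hmax Yd hYd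
  haveI : Surjective (f ∣_ Yd) := ⟨fun y => by
    have hy := (hYd y.1).1 y.2
    by_contra hne
    rw [MoreMor.fibreIntegral, finsum_eq_zero_of_forall_eq_zero fun u' => absurd
      ⟨⟨u'.1, show f u'.1 ∈ Yd by rw [u'.2]; exact y.2⟩,
        Subtype.ext ((morphismRestrict_base_coe f Yd _).trans u'.2)⟩ hne] at hy
    omega⟩
  exact Groth.Agent.S0593.result (f ⁻¹ᵁ Yd).toScheme Yd.toScheme (f ∣_ Yd)

theorem isAffineOpen_max_locus [IsAffine X] [IsAffine Y] (f : X ⟶ Y) [LocallyQuasiFinite f]
    [LocallyOfFiniteType f] {w : X → ℤ} (hw : MoreMor.IsWeighting f w) (hpos : ∀ x, 0 < w x) (d : ℤ)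
    (hmax : ∀ y : Y, MoreMor.fibreIntegral f w y ≤ d) (Yd : Y.Opens)
    (hYd : ∀ y, y ∈ Yd ↔ MoreMor.fibreIntegral f w y = d) : IsAffineOpen Yd :=
  affineBelow d.toNat X Y f w hw hpos d (by omega) hmax Yd hYd

end Groth.Agent.H7Weight
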