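import Groth.Agent.H7Weight.Basic
import Mathlib.AlgebraicGeometry.Morphisms.FlatDescent

/-!
# Fibre integrals of positive weightings of separated morphisms
-/

set_option autoImplicit false
set_option backward.isDefEq.respectTransparency false
set_option linter.style.haveILetI false

universe u

open AlgebraicGeometry CategoryTheory Limits

namespace Groth.Agent.H7Weight

variable {Ω : Type u} [Field Ω] [IsAlgClosed Ω] {X Y V : Scheme.{u}}

theorem universallyClosed_of_jointly_surjective {P S : Scheme.{u}} (q : P ⟶ S) {ι : Type*} [Finite ι]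
    {A : ι → Scheme.{u}} (e : ∀ i, A i ⟶ P) [∀ i, UniversallyClosed (e i ≫ q)]
    (hcov : ∀ z : P, ∃ i, z ∈ Set.range (e i)) : UniversallyClosed q := by
  constructor
  intro P' S' i₁ i₂ q' hc Z hZ
  have h : ∀ i, IsClosed (q' '' (Set.range (pullback.snd (e i) i₁) ∩ Z)) := by
    intro i
    have hq : IsPullback (pullback.snd (e i) i₁ ≫ q') (pullback.fst (e i) i₁) i₂ (e i ≫ q) :=
      (IsPullback.of_hasPullback (e i) i₁).flip.paste_horiz hc
    have : UniversallyClosed (pullback.snd (e i) i₁ ≫ q') :=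
      MorphismProperty.of_isPullback hq.flip inferInstance
    rw [← Set.image_preimage_eq_range_inter, Set.image_image]
    exact (pullback.snd (e i) i₁ ≫ q').isClosedMap _ (hZ.preimage (pullback.snd (e i) i₁).continuous)
  convert isClosed_iUnion_of_finite h using 1
  rw [← Set.image_iUnion, ← Set.iUnion_inter]
  have : (⋃ i, Set.range (pullback.snd (e i) i₁)) = Set.univ := by
    refine Set.eq_univ_of_forall fun z => Set.mem_iUnion.2 ?_
    obtain ⟨i, u, hu⟩ := hcov (i₁ z)
    obtain ⟨t, -, ht⟩ := Scheme.Pullback.exists_preimage_pullback u z hu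
    exact ⟨i, t, ht⟩
  rw [this, Set.univ_inter]

/-- Lifts of a geometric point are separated by single-point charts with disjoint images nearby. -/
theorem exists_singles_injective {f : X ⟶ Y} [LocallyQuasiFinite f] [LocallyOfFiniteType f] [IsSeparated f]
    (η : Spec (CommRingCat.of Ω) ⟶ Y) [Finite (Pts f η)] :
    ∃ (V : Scheme.{u}) (g : V ⟶ Y) (_ : Etale g) (η' : Spec (CommRingCat.of Ω) ⟶ V) (_ : η' ≫ g = η)
      (D : ∀ s : Pts f η, Single g η' s) (V₀ : V.Opens), pt η' ∈ V₀ ∧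
        ∀ (Ω' : Type u) [Field Ω'] [IsAlgClosed Ω'] (η'' : Spec (CommRingCat.of Ω') ⟶ V), pt η'' ∈ V₀ →
          Function.Injective fun p : (Σ s, Pts (D s).C.π η'') => (D p.1).C.ptsMap p.2 := by
  classical
  cases nonempty_fintype (Pts f η)
  obtain ⟨V, g, _, η', hη', hD⟩ := exists_singles f η Finset.univ
  let D : ∀ s : Pts f η, Single g η' s := fun s => (hD s (Finset.mem_univ _)).some
  have : ∀ s, IsFinite (D s).C.lift := fun s => by
    have : IsFinite ((D s).C.lift ≫ pullback.snd f g) := by rw [Chart.lift_snd]; infer_instance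
    exact .of_comp _ (pullback.snd f g)
  let J := {p : Pts f η × Pts f η // p.1 ≠ p.2}
  have key : ∀ p : J, ∃ V₀ : V.Opens, pt η' ∈ V₀ ∧ ∀ u, (D p.1.1).C.π u ∈ V₀ →
      (D p.1.1).C.lift u ∉ Set.range (D p.1.2).C.lift := by
    rintro ⟨⟨s, t⟩, hst⟩
    refine exists_nhds_preimage_subset (D s).C.π ((D s).C.lift ⁻¹' (Set.range (D t).C.lift)ᶜ)
      ((D t).C.lift.isClosedMap.isClosed_range.isOpen_compl.preimage (D s).C.lift.continuous) _ fun u hu => ?_
    obtain ⟨q, rfl⟩ := exists_pts (D s).C.π η' u hu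
    rw [(D s).unique q]
    rintro ⟨u', hu'⟩
    have hs : Set.range ((D s).p.1 ≫ (D s).C.lift) ⊆ Set.range (D t).C.lift := by
      rintro _ ⟨x, rfl⟩
      rw [Subsingleton.elim x (IsLocalRing.closedPoint Ω)]
      exact ⟨u', hu'⟩
    have he := IsOpenImmersion.lift_fac (D t).C.lift _ hs
    have e1 := (D t).unique ⟨IsOpenImmersion.lift (D t).C.lift _ hs, by
      rw [← (D t).C.lift_snd, reassoc_of% he, Chart.lift_snd, (D s).p.2]⟩
    refine hst (Subtype.ext ?_)
    show s.1 = t.1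
    rw [← (D t).p_a, ← e1, ← (D t).C.lift_fst, reassoc_of% he, Chart.lift_fst, (D s).p_a]
  choose O hO hO' using key
  refine ⟨V, g, inferInstance, η', hη', D,
    ⟨⋂ p, (O p : Set V), isOpen_iInter_of_finite fun p => (O p).2⟩, Set.mem_iInter.2 hO,
    fun Ω' _ _ η'' hη'' => ?_⟩
  rintro ⟨s, p⟩ ⟨t, q⟩ e
  have e' : p.1 ≫ (D s).C.lift = q.1 ≫ (D t).C.lift := by
    apply pullback.hom_ext
    · simp only [Category.assoc, Chart.lift_fst]; exact congr($(e).1)
    · simp only [Category.assoc, Chart.lift_snd]; rw [p.2, q.2]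
  obtain rfl : s = t := by
    by_contra hst
    exact hO' ⟨(s, t), hst⟩ (pt p.1) (by rw [p.map_pt]; exact Set.mem_iInter.1 hη'' _)
      ⟨pt q.1, congr(pt $e').symm⟩
  obtain rfl := (D s).C.ptsMap_injective η'' (a₁ := p) (a₂ := q) e
  rfl

section

variable {f : X ⟶ Y} [LocallyQuasiFinite f] [LocallyOfFiniteType f] [IsSeparated f] {w : X → ℤ}

/-- The integral near `y` is at least the sum of the pieces, with equality only if they exhaust the fibre. -/
theorem exists_nhds_ge (hfin : ∀ y : Y, (f ⁻¹' {y}).Finite) (hw : MoreMor.IsWeighting f w)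
    (hpos : ∀ x, 0 < w x) (η : Spec (CommRingCat.of Ω) ⟶ Y) :
    ∃ (V : Scheme.{u}) (g : V ⟶ Y) (_ : Etale g) (η' : Spec (CommRingCat.of Ω) ⟶ V) (_ : η' ≫ g = η)
      (ι : Type u) (_ : Finite ι) (C : ι → Chart f g) (V₀ : V.Opens), pt η' ∈ V₀ ∧
        ∀ v ∈ V₀, MoreMor.fibreIntegral f w (pt η) ≤ MoreMor.fibreIntegral f w (g v) ∧
          (MoreMor.fibreIntegral f w (g v) ≤ MoreMor.fibreIntegral f w (pt η) →
            ∀ z : ↥(pullback f g), pullback.snd f g z = v → ∃ i, z ∈ Set.range (C i).lift) := by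
  classical
  have := finite_pts f η (hfin _)
  obtain ⟨V, g, _, η', hη', D, V₁, hV₁, hinj⟩ := exists_singles_injective (f := f) η
  choose O hO hOc using fun s => (D s).C.exists_nhds_const hw η'
  refine ⟨V, g, inferInstance, η', hη', Pts f η, inferInstance, fun s => (D s).C,
    V₁ ⊓ ⟨⋂ s, (O s : Set V), isOpen_iInter_of_finite fun s => (O s).2⟩,
    ⟨hV₁, Set.mem_iInter.2 hO⟩, fun v hv => ?_⟩
  obtain ⟨Ω', _, _, η'', rfl⟩ := exists_geomPt' v
  have := finite_pts f (η'' ≫ g) (hfin _)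
  cases nonempty_fintype (Pts f η)
  cases nonempty_fintype (Pts f (η'' ≫ g))
  have : ∀ s, Fintype (Pts (D s).C.π η'') := fun s => @Fintype.ofFinite _ ((D s).C.finite_pts η'')
  rw [← pt_comp, fibreIntegral_eq_geomSum f w η (hfin _), fibreIntegral_eq_geomSum f w _ (hfin _)]
  let Φ := fun p : (Σ s, Pts (D s).C.π η'') => (D p.1).C.ptsMap p.2
  have hΦ : Function.Injective Φ := hinj Ω' η'' hv.1
  have hsum : ∑ t ∈ Finset.univ.image Φ, w (pt t.1) = geomSum f w η := by
    rw [Finset.sum_image hΦ.injOn, geomSum, finsum_eq_sum_of_fintype]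
    rw [Fintype.sum_sigma]
    refine Finset.sum_congr rfl fun s _ => ?_
    rw [← geomSum_single (D s) w, ← hOc s Ω' η'' (Set.mem_iInter.1 hv.2 s), geomSum, finsum_eq_sum_of_fintype]
    rfl
  conv in geomSum f w (η'' ≫ g) => rw [geomSum, finsum_eq_sum_of_fintype]
  rw [← hsum]
  refine ⟨Finset.sum_le_sum_of_subset_of_nonneg (Finset.subset_univ _) fun t _ _ => (hpos _).le,
    fun hle z hz => ?_⟩
  rw [geomSum, finsum_eq_sum_of_fintype] at hle
  obtain ⟨t, rfl⟩ := exists_pts (pullback.snd f g) η'' z hz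
  let t' : Pts f (η'' ≫ g) := ⟨t.1 ≫ pullback.fst f g, by rw [Category.assoc, pullback.condition, ← Category.assoc, t.2]⟩
  have hmem : t' ∈ Finset.univ.image Φ := by
    by_contra hne
    exact absurd hle (not_le.2 (Finset.sum_lt_sum_of_subset (Finset.subset_univ _) (Finset.mem_univ t') hne
      (hpos _) fun j _ _ => (hpos _).le))
  obtain ⟨⟨s, p⟩, -, hp⟩ := Finset.mem_image.1 hmem
  have e : p.1 ≫ (D s).C.lift = t.1 := by
    apply pullback.hom_ext
    · rw [Category.assoc, Chart.lift_fst]; exact congr($(hp).1)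
    · rw [Category.assoc, Chart.lift_snd, p.2, t.2]
  exact ⟨s, pt p.1, congr(pt $e)⟩

theorem lowerSemicontinuous_fibreIntegral (hfin : ∀ y : Y, (f ⁻¹' {y}).Finite)
    (hw : MoreMor.IsWeighting f w) (hpos : ∀ x, 0 < w x) :
    LowerSemicontinuous (MoreMor.fibreIntegral f w) := by
  intro y c hc
  obtain ⟨Ω, _, _, η, rfl⟩ := exists_geomPt' y
  obtain ⟨V, g, _, η', hη', _, _, _, V₀, hV₀, hge⟩ := exists_nhds_ge hfin hw hpos η
  filter_upwards [(g.isOpenMap _ V₀.2).mem_nhds ⟨pt η', hV₀, congr(pt $hη')⟩] with y' hy'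
  obtain ⟨v, hv, rfl⟩ := hy'
  exact lt_of_lt_of_le hc (hge v hv).1

theorem isOpen_max_locus (hfin : ∀ y : Y, (f ⁻¹' {y}).Finite) (hw : MoreMor.IsWeighting f w)
    (hpos : ∀ x, 0 < w x) (d : ℤ) (hmax : ∀ y : Y, MoreMor.fibreIntegral f w y ≤ d) :
    IsOpen {y : Y | MoreMor.fibreIntegral f w y = d} := by
  convert (lowerSemicontinuous_fibreIntegral hfin hw hpos).isOpen_preimage (d - 1) using 1
  ext y
  simp only [Set.mem_setOf_eq, Set.mem_preimage, Set.mem_Ioi]
  have := hmax y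
  omega

theorem isFinite_max_locus (hfin : ∀ y : Y, (f ⁻¹' {y}).Finite) (hw : MoreMor.IsWeighting f w)
    (hpos : ∀ x, 0 < w x) (d : ℤ) (hmax : ∀ y : Y, MoreMor.fibreIntegral f w y ≤ d)
    (Yd : Y.Opens) (hYd : ∀ y, y ∈ Yd ↔ MoreMor.fibreIntegral f w y = d) : IsFinite (f ∣_ Yd) := by
  have key : ∀ y ∈ Yd, ∃ U : Y.Opens, y ∈ U ∧ U ≤ Yd ∧ IsFinite (f ∣_ U) := by
    intro y hy
    obtain ⟨Ω, _, _, η, rfl⟩ := exists_geomPt' y
    obtain ⟨V, g, _, η', hη', ι, _, C, V₀, hV₀, hge⟩ := exists_nhds_ge hfin hw hpos η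
    obtain ⟨_, ⟨(A : Y.Opens), (hA : IsAffineOpen A), rfl⟩, hyA, -⟩ :=
      Y.isBasis_affineOpens.exists_subset_of_mem_open (Set.mem_univ (pt η)) isOpen_univ
    have hgy : g (pt η') = pt η := congr(pt $hη')
    obtain ⟨_, ⟨(W : V.Opens), (hW : IsAffineOpen W), rfl⟩, hvW, hWsub⟩ :=
      V.isBasis_affineOpens.exists_subset_of_mem_open
        (show pt η' ∈ (V₀ ⊓ g ⁻¹ᵁ A : V.Opens) from ⟨hV₀, show g (pt η') ∈ A by rw [hgy]; exact hyA⟩)
        (V₀ ⊓ g ⁻¹ᵁ A : V.Opens).2
    let gW : W.toScheme ⟶ Y := W.ι ≫ g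
    let U : Y.Opens := ⟨_, gW.isOpenMap.isOpen_range⟩
    have hUA : U ≤ A := by
      rintro _ ⟨v, rfl⟩
      exact (hWsub v.2).2
    let k : W.toScheme ⟶ U.toScheme := IsOpenImmersion.lift U.ι gW (by rw [Scheme.Opens.range_ι]; rfl)
    have hk : k ≫ U.ι = gW := IsOpenImmersion.lift_fac _ _ _
    have : Etale (k ≫ U.ι) := by rw [hk]; infer_instance
    have : Etale k := Etale.of_comp _ U.ι
    have : Surjective k := ⟨fun z => by
      obtain ⟨v, hv⟩ := z.2
      exact ⟨v, U.ι.isOpenEmbedding.injective ((congr($hk v)).trans hv)⟩⟩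
    have : QuasiCompact k := by
      have : IsAffine W.toScheme := hW
      have : IsAffine A.toScheme := hA
      have : QuasiCompact (k ≫ Y.homOfLE hUA) :=
        (inferInstance : QuasiCompact (k ≫ Y.homOfLE hUA))
      exact .of_comp k (Y.homOfLE hUA)
    -- the pullback to `W` is finite
    have hUC : UniversallyClosed (pullback.snd f gW) := by
      have : ∀ i, IsFinite (((C i).baseChange W.ι).lift ≫ pullback.snd f gW) := fun i => by
        rw [Chart.lift_snd]; infer_instance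
      refine universallyClosed_of_jointly_surjective _ (fun i => ((C i).baseChange W.ι).lift) fun z => ?_
      obtain ⟨Ω', _, _, ζ, hζ⟩ := exists_geomPt' (pullback.snd f gW z)
      obtain ⟨t, rfl⟩ := exists_pts (pullback.snd f gW) ζ z hζ.symm
      let m : pullback f gW ⟶ pullback f g :=
        pullback.lift (pullback.fst _ _) (pullback.snd _ _ ≫ W.ι) (by rw [pullback.condition, Category.assoc])
      have hv : pullback.snd f g (m (pt t.1)) = W.ι (pt ζ) := by
        rw [← Scheme.Hom.comp_apply, pullback.lift_snd, Scheme.Hom.comp_apply, t.map_pt]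
      obtain ⟨i, u, hu⟩ := (hge (W.ι (pt ζ)) (hWsub (pt ζ).2).1).2
        (by rw [(hYd _).1 hy]; exact hmax _) _ hv
      have hs : Set.range (t.1 ≫ m) ⊆ Set.range (C i).lift := by
        rintro _ ⟨x, rfl⟩
        rw [Subsingleton.elim x (IsLocalRing.closedPoint Ω')]
        exact ⟨u, hu⟩
      let e₀ := IsOpenImmersion.lift (C i).lift _ hs
      have he₀ : e₀ ≫ (C i).lift = t.1 ≫ m := IsOpenImmersion.lift_fac _ _ _
      have he₁ : e₀ ≫ (C i).π = ζ ≫ W.ι := by
        rw [← (C i).lift_snd, reassoc_of% he₀, pullback.lift_snd, ← Category.assoc, t.2]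
      let e : Spec (CommRingCat.of Ω') ⟶ ((C i).baseChange W.ι).U := pullback.lift e₀ ζ he₁
      have he : e ≫ ((C i).baseChange W.ι).lift = t.1 := by
        apply pullback.hom_ext
        · rw [Category.assoc, Chart.lift_fst]
          show e ≫ pullback.fst (C i).π W.ι ≫ (C i).a = _
          rw [pullback.lift_fst_assoc, ← (C i).lift_fst, reassoc_of% he₀, pullback.lift_fst]
        · rw [Category.assoc, Chart.lift_snd, t.2]
          exact pullback.lift_snd _ _ _
      exact ⟨i, pt e, congr(pt $he)⟩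
    refine ⟨U, ⟨⟨pt η', hvW⟩, hgy⟩, ?_, ?_⟩
    · rintro _ ⟨v, rfl⟩
      rw [hYd]
      refine le_antisymm (hmax _) ?_
      rw [← (hYd _).1 hy]
      exact (hge _ (hWsub v.2).1).1
    · have hsq : IsPullback (pullback.fst (f ∣_ U) k ≫ (f ⁻¹ᵁ U).ι) (pullback.snd (f ∣_ U) k) f gW :=
        hk ▸ (IsPullback.of_hasPullback (f ∣_ U) k).paste_horiz (isPullback_morphismRestrict f U).flip
      have : UniversallyClosed (pullback.snd (f ∣_ U) k) := by
        rw [← hsq.isoPullback_hom_snd]; infer_instance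
      have : UniversallyClosed (f ∣_ U) :=
        MorphismProperty.of_pullback_snd_of_descendsAlong (P := @UniversallyClosed)
          (Q := @Surjective ⊓ @Flat ⊓ @QuasiCompact) ⟨⟨inferInstance, inferInstance⟩, inferInstance⟩ this
      have : IsProper (f ∣_ U) := ⟨⟩
      exact .of_isProper_of_locallyQuasiFinite _
  refine IsZariskiLocalAtTarget.of_forall_exists_morphismRestrict fun y => ?_
  obtain ⟨U, hyU, hUle, hU⟩ := key y.1 y.2
  refine ⟨Yd.ι ⁻¹ᵁ U, hyU, ?_⟩
  have hU' : Yd.ι ''ᵁ (Yd.ι ⁻¹ᵁ U) = U := by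
    ext z
    exact ⟨fun ⟨a, ha, e⟩ => e ▸ ha, fun hz => ⟨⟨z, hUle hz⟩, hz, rfl⟩⟩
  rw [MorphismProperty.arrow_mk_iso_iff @IsFinite (morphismRestrictRestrict f Yd _), hU']
  exact hU

end

end Groth.Agent.H7Weight
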