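import Groth.Agent.H7Weight.MaxAffine
import Groth.Agent.H7Flat.Stratification
import Mathlib.Order.Fin.Basic

/-!
# The affine stratification given by a positive weighting
-/

set_option autoImplicit false
set_option backward.isDefEq.respectTransparency false
set_option linter.style.haveILetI false

universe u

open AlgebraicGeometry CategoryTheory Limits TopologicalSpace

namespace Groth.Agent.H7Weight

variable {X Y : Scheme.{u}}

/-- The maximal locus of a surjective quasi-finite map from an affine scheme. -/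
theorem isAffine_max_locus_of_isSeparated [IsAffine X] [Y.IsSeparated] (f : X ⟶ Y) [LocallyQuasiFinite f]
    [LocallyOfFiniteType f] [Surjective f] {w : X → ℤ} (hw : MoreMor.IsWeighting f w)
    (hpos : ∀ x, 0 < w x) (d : ℤ) (hmax : ∀ y : Y, MoreMor.fibreIntegral f w y ≤ d) (Yd : Y.Opens)
    (hYd : ∀ y, y ∈ Yd ↔ MoreMor.fibreIntegral f w y = d) : IsAffine Yd.toScheme ∧ IsAffineHom Yd.ι := by
  haveI : IsAffineHom f := by
    haveI : IsAffineHom (f ≫ terminal.from Y) := inferInstance
    exact IsAffineHom.of_comp f (terminal.from Y)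
  haveI hι : IsAffineHom Yd.ι := by
    refine isAffineHom_of_forall_exists_isAffineOpen _ fun y => ?_
    obtain ⟨A, hA, hyA, -⟩ := exists_isAffineOpen_mem_and_subset (U := (⊤ : Y.Opens)) (x := y) trivial
    refine ⟨A, hyA, hA, ?_⟩
    haveI : IsAffine A.toScheme := hA
    haveI : IsAffine (f ⁻¹ᵁ A).toScheme := hA.preimage f
    have hc : IsPullback (f ⁻¹ᵁ A).ι (f ∣_ A) f A.ι := (isPullback_morphismRestrict f A).flip
    haveI : LocallyQuasiFinite (f ∣_ A) := MorphismProperty.of_isPullback hc inferInstance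
    haveI : LocallyOfFiniteType (f ∣_ A) := MorphismProperty.of_isPullback hc inferInstance
    have hI : ∀ a : A.toScheme, MoreMor.fibreIntegral (f ∣_ A) (w ∘ (f ⁻¹ᵁ A).ι) a =
        MoreMor.fibreIntegral f w (A.ι a) :=
      fun a => fibreIntegral_baseChange hc w a (f.finite_preimage_singleton _)
    have h := isAffineOpen_max_locus (f ∣_ A) (isWeighting_baseChange hw hc) (fun _ => hpos _) d
      (fun a => (hI a).trans_le (hmax _)) (A.ι ⁻¹ᵁ Yd) fun a => by rw [hI]; exact hYd (A.ι a)
    rw [← Yd.ι.isAffineOpen_iff_of_isOpenImmersion, Scheme.Hom.image_preimage_eq_opensRange_inf,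
      Scheme.Opens.opensRange_ι]
    rw [← A.ι.isAffineOpen_iff_of_isOpenImmersion, Scheme.Hom.image_preimage_eq_opensRange_inf,
      Scheme.Opens.opensRange_ι, inf_comm] at h
    exact h
  refine ⟨?_, hι⟩
  haveI : IsAffineHom (f ⁻¹ᵁ Yd).ι :=
    MorphismProperty.of_isPullback (P := @IsAffineHom) (isPullback_morphismRestrict f Yd) hι
  haveI : IsAffine (f ⁻¹ᵁ Yd).toScheme := isAffine_of_isAffineHom (f ⁻¹ᵁ Yd).ι
  haveI : IsFinite (f ∣_ Yd) :=
    isFinite_max_locus (fun y => f.finite_preimage_singleton y) hw hpos _ hmax Yd hYd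
  haveI : Surjective (f ∣_ Yd) := MorphismProperty.of_isPullback (P := @Surjective)
    (isPullback_morphismRestrict f Yd).flip inferInstance
  exact Groth.Agent.S0593.result (f ⁻¹ᵁ Yd).toScheme Yd.toScheme (f ∣_ Yd)

/-- The fibre integral gives an affine stratification. -/
theorem hasAffineStratification_of_weighting [IsAffine X] [Y.IsSeparated] [Nonempty Y] (f : X ⟶ Y)
    [LocallyQuasiFinite f] [LocallyOfFiniteType f] [Surjective f] {w : X → ℤ} (hw : MoreMor.IsWeighting f w)
    (hpos : ∀ x, 0 < w x) (k : ℕ) (hk : (Set.range (MoreMor.fibreIntegral f w)).ncard = k)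
    (hfin : (Set.range (MoreMor.fibreIntegral f w)).Finite) : MoreMor.HasAffineStratification Y (k - 1) := by
  classical
  haveI : IsAffineHom f := by
    haveI : IsAffineHom (f ≫ terminal.from Y) := inferInstance
    exact IsAffineHom.of_comp f (terminal.from Y)
  let I := MoreMor.fibreIntegral f w
  let S := hfin.toFinset
  have hS : ∀ y, I y ∈ S := fun y => hfin.mem_toFinset.2 ⟨y, rfl⟩
  have hne : S.Nonempty := ⟨_, hS (Classical.arbitrary Y)⟩
  have hcard : S.card = k - 1 + 1 := by
    have h1 : S.card = k := by rw [← hk, Set.ncard_eq_toFinset_card _ hfin]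
    have := hne.card_pos
    omega
  let e := S.orderIsoOfFin hcard
  let s : Y → Fin (k - 1 + 1) := fun y => e.symm ⟨I y, hS y⟩
  have hle : ∀ y i, s y ≤ i ↔ I y ≤ (e i).1 := fun y i => by
    rw [← e.le_iff_le, OrderIso.apply_symm_apply]; rfl
  have heq : ∀ y i, s y = i ↔ I y = (e i).1 := fun y i => by
    rw [← e.injective.eq_iff, OrderIso.apply_symm_apply, Subtype.ext_iff]
  have hlsc := lowerSemicontinuous_fibreIntegral (fun y => f.finite_preimage_singleton y) hw hpos
  have hcl : ∀ i, IsClosed {y : Y | s y ≤ i} := fun i => by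
    have : {y : Y | s y ≤ i} = I ⁻¹' Set.Iic (e i).1 := by ext y; exact hle y i
    rw [this]
    exact hlsc.isClosed_preimage _
  refine ⟨s, hcl, fun i => ?_⟩
  let Z : Closeds Y := ⟨_, hcl i⟩
  let J := Scheme.IdealSheafData.vanishingIdeal Z
  have hrange : Set.range J.subschemeι = {y : Y | s y ≤ i} := by
    rw [Scheme.IdealSheafData.range_subschemeι, Scheme.IdealSheafData.coe_support_vanishingIdeal]
    rfl
  let f' := pullback.snd f J.subschemeι
  haveI : IsAffine (pullback f J.subschemeι) := isAffine_of_isAffineHom (pullback.fst f J.subschemeι)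
  haveI : J.subscheme.IsSeparated := ⟨by
    rw [← Limits.terminal.comp_from J.subschemeι]; infer_instance⟩
  have hI : ∀ z, MoreMor.fibreIntegral f' (w ∘ pullback.fst f J.subschemeι) z = I (J.subschemeι z) :=
    fun z => fibreIntegral_baseChange (IsPullback.of_hasPullback f J.subschemeι) w z
      (f.finite_preimage_singleton _)
  have hmax : ∀ z, MoreMor.fibreIntegral f' (w ∘ pullback.fst f J.subschemeι) z ≤ (e i).1 := fun z => by
    rw [hI, ← hle]
    exact hrange.le ⟨z, rfl⟩
  have hwZ := isWeighting_baseChange hw (IsPullback.of_hasPullback f J.subschemeι)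
  let Yd : J.subscheme.Opens := ⟨_, isOpen_max_locus (fun y => f'.finite_preimage_singleton y) hwZ
    (fun _ => hpos _) _ hmax⟩
  obtain ⟨hYd, hYdι⟩ := isAffine_max_locus_of_isSeparated f' hwZ (fun _ => hpos _) _ hmax Yd fun _ => Iff.rfl
  refine ⟨Yd.toScheme, Yd.ι ≫ J.subschemeι, inferInstance, hYd, inferInstance, ?_⟩
  rw [Scheme.Hom.comp_base, TopCat.coe_comp, Set.range_comp, Scheme.Opens.range_ι]
  ext y
  constructor
  · rintro ⟨z, hz, rfl⟩
    have hz' : MoreMor.fibreIntegral f' (w ∘ pullback.fst f J.subschemeι) z = (e i).1 := hz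
    rw [hI] at hz'
    exact (heq _ i).2 hz'
  · intro hy
    have hy' : s y = i := hy
    obtain ⟨z, rfl⟩ := hrange.ge (show s y ≤ i from hy'.le)
    refine ⟨z, ?_, rfl⟩
    show MoreMor.fibreIntegral f' (w ∘ pullback.fst f J.subschemeι) z = (e i).1
    rw [hI]
    exact (heq _ i).1 hy'

end Groth.Agent.H7Weight
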